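import Mathlib

/-!
# Derivations out of finitely presented algebras and localisation of the target
-/

set_option autoImplicit false
universe u

open TensorProduct

namespace Groth.Agent.H06Lift

variable {k R A : Type u} [CommRing k] [CommRing R] [CommRing A] [Algebra k R] [Algebra R A]
  (S : Submonoid A) {N N' : Type u} [AddCommGroup N] [AddCommGroup N'] [Module A N] [Module A N']
  (f : N →ₗ[A] N')

/-- A derivation with values in an `A`-module gives a map out of `A ⊗ Ω`. -/
theorem exists_linear_of_derivation {P : Type u} [AddCommGroup P] [Module A P] (δ : R →+ P)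
    (hmul : ∀ x y, δ (x * y) = algebraMap R A x • δ y + algebraMap R A y • δ x)
    (hbase : ∀ c, δ (algebraMap k R c) = 0) :
    ∃ L : (A ⊗[R] Ω[R⁄k]) →ₗ[A] P, ∀ x, L (1 ⊗ₜ KaehlerDifferential.D k R x) = δ x := by
  letI : Module R P := Module.compHom P (algebraMap R A)
  haveI : IsScalarTower R A P := ⟨fun r a p => by rw [Algebra.smul_def, mul_smul]; rfl⟩
  letI : Module k P := Module.compHom P ((algebraMap R A).comp (algebraMap k R))
  haveI : IsScalarTower k R P := ⟨fun c r p => by
    show algebraMap R A (c • r) • p = algebraMap R A (algebraMap k R c) • algebraMap R A r • p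
    rw [Algebra.smul_def, map_mul, mul_smul]⟩
  let D : Derivation k R P :=
    { toFun := δ
      map_add' := map_add δ
      map_smul' := fun c r => by
        show δ (c • r) = algebraMap R A (algebraMap k R c) • δ r
        rw [Algebra.smul_def, hmul, hbase, smul_zero, add_zero]
      map_one_eq_zero' := by simpa using hbase 1
      leibniz' := hmul }
  exact ⟨D.liftKaehlerDifferential.liftBaseChange A, fun x => by
    rw [LinearMap.liftBaseChange_tmul, one_smul]
    exact Derivation.liftKaehlerDifferential_comp_D D x⟩

/-- Derivations into a localisation extend up to a denominator. -/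
theorem exists_derivation_extension [Algebra.FinitePresentation k R] [IsLocalizedModule S f] (δ : R →+ N')
    (hmul : ∀ x y, δ (x * y) = algebraMap R A x • δ y + algebraMap R A y • δ x)
    (hbase : ∀ c, δ (algebraMap k R c) = 0) :
    ∃ s ∈ S, ∃ e : R →+ N, (∀ x y, e (x * y) = algebraMap R A x • e y + algebraMap R A y • e x) ∧
      (∀ c, e (algebraMap k R c) = 0) ∧ ∀ x, f (e x) = s • δ x := by
  obtain ⟨L, hL⟩ := exists_linear_of_derivation δ hmul hbase
  obtain ⟨H, s, hH⟩ := Module.FinitePresentation.exists_lift_of_isLocalizedModule S f L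
  refine ⟨s.1, s.2, AddMonoidHom.mk' (fun x => H (1 ⊗ₜ KaehlerDifferential.D k R x))
    (fun x y => by rw [map_add, tmul_add, map_add]), fun x y => ?_, fun c => ?_, fun x => ?_⟩
  · show H (1 ⊗ₜ KaehlerDifferential.D k R (x * y)) =
      algebraMap R A x • H (1 ⊗ₜ KaehlerDifferential.D k R y) + algebraMap R A y • H (1 ⊗ₜ KaehlerDifferential.D k R x)
    rw [Derivation.leibniz, tmul_add, map_add, tmul_smul, tmul_smul,
      ← algebraMap_smul A x ((1 : A) ⊗ₜ[R] KaehlerDifferential.D k R y),
      ← algebraMap_smul A y ((1 : A) ⊗ₜ[R] KaehlerDifferential.D k R x), map_smul, map_smul]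
  · show H (1 ⊗ₜ KaehlerDifferential.D k R (algebraMap k R c)) = 0
    rw [Derivation.map_algebraMap, tmul_zero, map_zero]
  · show f (H (1 ⊗ₜ KaehlerDifferential.D k R x)) = s.1 • δ x
    rw [← LinearMap.comp_apply, hH, ← hL x]
    rfl

/-- Derivations vanishing in a localisation are killed by a denominator. -/
theorem exists_smul_derivation_eq_zero [Algebra.FinitePresentation k R] [IsLocalizedModule S f] (δ : R →+ N)
    (hmul : ∀ x y, δ (x * y) = algebraMap R A x • δ y + algebraMap R A y • δ x)
    (hbase : ∀ c, δ (algebraMap k R c) = 0) (h0 : ∀ x, f (δ x) = 0) : ∃ s ∈ S, ∀ x, s • δ x = 0 := by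
  obtain ⟨L, hL⟩ := exists_linear_of_derivation δ hmul hbase
  have h : f.comp L = f.comp (0 : (A ⊗[R] Ω[R⁄k]) →ₗ[A] N) := by
    refine LinearMap.ext fun z => ?_
    have hw : ∀ w, f (L (1 ⊗ₜ w)) = 0 := by
      intro w
      have hmem : w ∈ Submodule.span R (Set.range (KaehlerDifferential.D k R)) := by
        rw [KaehlerDifferential.span_range_derivation]; trivial
      induction hmem using Submodule.span_induction with
      | mem w hw => obtain ⟨x, rfl⟩ := hw; rw [hL, h0]
      | zero => rw [tmul_zero, map_zero, map_zero]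
      | add w w' _ _ hw hw' => rw [tmul_add, map_add, map_add, hw, hw', add_zero]
      | smul r w _ hw =>
        rw [tmul_smul, ← algebraMap_smul A r ((1 : A) ⊗ₜ[R] w), map_smul, map_smul, hw, smul_zero]
    rw [LinearMap.comp_apply, LinearMap.comp_apply, LinearMap.zero_apply, map_zero]
    induction z using TensorProduct.induction_on with
    | zero => rw [map_zero, map_zero]
    | add a b ha hb => rw [map_add, map_add, ha, hb, add_zero]
    | tmul a w =>
      rw [show a ⊗ₜ[R] w = a • ((1 : A) ⊗ₜ[R] w) by rw [smul_tmul', smul_eq_mul, mul_one],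
        map_smul, map_smul, hw, smul_zero]
  obtain ⟨s, hs⟩ := Module.Finite.exists_smul_of_comp_eq_of_isLocalizedModule S f L 0 h
  refine ⟨s.1, s.2, fun x => ?_⟩
  have := LinearMap.congr_fun hs (1 ⊗ₜ KaehlerDifferential.D k R x)
  rw [smul_zero, LinearMap.zero_apply, LinearMap.smul_apply, hL] at this
  exact this

end Groth.Agent.H06Lift
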