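import Groth.Agent.H06Lift.Chart
import Groth.Agent.H06Lift.DerAlg
import Groth.Agent.H29Fitt.Sheaf

/-!
# Cocycles of derivations on an affine scheme are coboundaries
-/

set_option autoImplicit false
set_option linter.style.haveILetI false
set_option backward.isDefEq.respectTransparency false
universe u

open CategoryTheory CategoryTheory.Limits AlgebraicGeometry TopologicalSpace Opposite

namespace Groth.Agent.H06Lift

variable {S X T₀ : Scheme.{u}} {f : X ⟶ S} {a₀ : T₀ ⟶ X} {M : T₀.Modules}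

/-- A global function restricted to an open. -/
noncomputable abbrev sc (P : T₀.Opens) (c : Γ(T₀, ⊤)) : Γ(T₀, P) := rO T₀ (le_top : P ≤ ⊤) c

/-- Multiplication of derivations by a global function. -/
noncomputable def dSmul (c : Γ(T₀, ⊤)) {P : T₀.Opens} : Ders f a₀ M P →+ Ders f a₀ M P where
  toFun δ := ⟨fun W => AddMonoidHom.mk' (fun x => sc (a₀ ⁻¹ᵁ W ⊓ P) c • δ.1 W x)
      (fun x y => by rw [map_add, smul_add]),
    ⟨fun W W' e x => by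
      show sc (a₀ ⁻¹ᵁ W' ⊓ P) c • δ.1 W' (rO X e x) = rM M _ (sc (a₀ ⁻¹ᵁ W ⊓ P) c • δ.1 W x)
      rw [δ.2.res, rM_smul, rO_rO],
    fun W x y => by
      show sc (a₀ ⁻¹ᵁ W ⊓ P) c • δ.1 W (x * y) =
        rO T₀ (inf_le_left : a₀ ⁻¹ᵁ W ⊓ P ≤ a₀ ⁻¹ᵁ W) (a₀.app W x) • (sc (a₀ ⁻¹ᵁ W ⊓ P) c • δ.1 W y) +
          rO T₀ (inf_le_left : a₀ ⁻¹ᵁ W ⊓ P ≤ a₀ ⁻¹ᵁ W) (a₀.app W y) • (sc (a₀ ⁻¹ᵁ W ⊓ P) c • δ.1 W x)
      rw [δ.2.mul, smul_add, smul_comm (sc (a₀ ⁻¹ᵁ W ⊓ P) c), smul_comm (sc (a₀ ⁻¹ᵁ W ⊓ P) c)],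
    fun Y y => by
      show sc (a₀ ⁻¹ᵁ (f ⁻¹ᵁ Y) ⊓ P) c • δ.1 _ (f.app Y y) = 0
      rw [δ.2.base, smul_zero]⟩⟩
  map_zero' := Subtype.ext (funext fun W => AddMonoidHom.ext fun x =>
    smul_zero (sc (a₀ ⁻¹ᵁ W ⊓ P) c))
  map_add' δ ε := Subtype.ext (funext fun W => AddMonoidHom.ext fun x =>
    smul_add (sc (a₀ ⁻¹ᵁ W ⊓ P) c) (δ.1 W x) (ε.1 W x))

theorem dSmul_apply (c : Γ(T₀, ⊤)) {P : T₀.Opens} (δ : Ders f a₀ M P) (W : X.Opens) (x : Γ(X, W)) :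
    (dSmul c δ).1 W x = sc (a₀ ⁻¹ᵁ W ⊓ P) c • δ.1 W x := rfl

theorem dRes_dSmul (c : Γ(T₀, ⊤)) {P Q : T₀.Opens} (h : Q ≤ P) (δ : Ders f a₀ M P) :
    dRes h (dSmul c δ) = dSmul c (dRes h δ) :=
  Subtype.ext (funext fun W => AddMonoidHom.ext fun x => by
    rw [dRes_apply, dSmul_apply, dSmul_apply, dRes_apply, rM_smul, rO_rO])

theorem dSmul_dSmul (c c' : Γ(T₀, ⊤)) {P : T₀.Opens} (δ : Ders f a₀ M P) :
    dSmul c (dSmul c' δ) = dSmul (c * c') δ :=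
  Subtype.ext (funext fun W => AddMonoidHom.ext fun x => by
    rw [dSmul_apply, dSmul_apply, dSmul_apply]; simp only [sc, RingHom.map_mul, mul_smul])

theorem dSmul_one {P : T₀.Opens} (δ : Ders f a₀ M P) : dSmul 1 δ = δ :=
  Subtype.ext (funext fun W => AddMonoidHom.ext fun x => by rw [dSmul_apply]; simp only [sc, RingHom.map_one, one_smul])

theorem dSmul_sum {κ : Type*} [Fintype κ] (c : κ → Γ(T₀, ⊤)) {P : T₀.Opens} (δ : Ders f a₀ M P) :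
    ∑ k, dSmul (c k) δ = dSmul (∑ k, c k) δ :=
  Subtype.ext (funext fun W => AddMonoidHom.ext fun x => by
    rw [dSmul_apply, AddSubgroup.val_finsetSum, Finset.sum_apply, AddMonoidHom.finsetSum_apply]
    simp only [sc, _root_.map_sum, Finset.sum_smul]
    rfl)

theorem evalChart_dSmul (c : Γ(T₀, ⊤)) {W : X.Opens} {Q : T₀.Opens} (hQW : Q ≤ a₀ ⁻¹ᵁ W)
    (δ : Ders f a₀ M Q) (x : Γ(X, W)) :
    evalChart hQW (dSmul c δ) x = sc Q c • evalChart hQW δ x := by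
  show rM M _ (sc (a₀ ⁻¹ᵁ W ⊓ Q) c • δ.1 W x) = _
  rw [rM_smul, rO_rO]
  rfl

variable [LocallyOfFinitePresentation f]

/-- Extension of derivations from a standard open, up to a power. -/
theorem exists_dRes_eq_pow (hM : Coh.IsQCoh M) {W : X.Opens} (hW : IsAffineOpen W) {U : S.Opens}
    (hU : IsAffineOpen U) (e : W ≤ f ⁻¹ᵁ U) {Q : T₀.Opens} (hQ : IsAffineOpen Q) (hQW : Q ≤ a₀ ⁻¹ᵁ W)
    (h : Γ(T₀, ⊤)) {Q' : T₀.Opens} (hQ' : T₀.basicOpen (rO T₀ le_top h : Γ(T₀, Q)) = Q')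
    (δ : Ders f a₀ M Q') :
    ∃ (n : ℕ) (η : Ders f a₀ M Q), dRes (hQ'.ge.trans (T₀.basicOpen_le _)) η = dSmul (h ^ n) δ := by
  obtain ⟨t, ht⟩ : ∃ t : Γ(T₀, Q), t = rO T₀ le_top h := ⟨_, rfl⟩
  rw [← ht] at hQ'
  subst hQ'
  algebraize [(f.appLE U W e).hom, (a₀.appLE W Q hQW).hom]
  haveI : Algebra.FinitePresentation Γ(S, U) Γ(X, W) :=
    HasRingHomProperty.appLE @LocallyOfFinitePresentation f inferInstance ⟨U, hU⟩ ⟨W, hW⟩ e
  letI := Module.compHom Γ(M, T₀.basicOpen t) (algebraMap Γ(T₀, Q) Γ(T₀, T₀.basicOpen t))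
  haveI := H29Fitt.isLocalizedModule_resLin M hM hQ t
  have hQ'W : T₀.basicOpen t ≤ a₀ ⁻¹ᵁ W := (T₀.basicOpen_le t).trans hQW
  obtain ⟨s, ⟨n, rfl⟩, D₀, hm, hb, hD⟩ := exists_derivation_extension (k := Γ(S, U)) (R := Γ(X, W))
    (Submonoid.powers t) (H29Fitt.resLin M t) (evalChart hQ'W δ)
    (fun x y => by
      rw [evalChart_mul]
      show _ = rO T₀ (T₀.basicOpen_le t) (a₀.appLE W Q hQW x) • evalChart hQ'W δ y + rO T₀ (T₀.basicOpen_le t) (a₀.appLE W Q hQW y) • evalChart hQ'W δ x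
      simp only [Scheme.Hom.appLE, CommRingCat.comp_apply, rO_rO'])
    (evalChart_base hQ'W δ e)
  obtain ⟨η, hη⟩ := exists_evalChart_eq (f := f) hW hU e hQW D₀ hm hb
  refine ⟨n, η, evalChart_injective hW hQ'W ?_⟩
  refine AddMonoidHom.ext fun x => ?_
  dsimp only
  show evalChart hQ'W (dRes (T₀.basicOpen_le t) η) x = evalChart hQ'W (dSmul (h ^ n) δ) x
  rw [evalChart_dSmul]
  refine (evalChart_dRes hQW _ η x).trans ?_
  rw [hη]
  refine (hD x).trans ?_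
  show rO T₀ (T₀.basicOpen_le t) (t ^ n) • evalChart hQ'W δ x = _
  have htt : rO T₀ (T₀.basicOpen_le t) t = rO T₀ (le_top : T₀.basicOpen t ≤ ⊤) h :=
    (congrArg (rO T₀ (T₀.basicOpen_le t)) ht).trans (rO_rO _ _ _)
  simp only [sc, RingHom.map_pow, htt]

/-- Derivations vanishing on a standard open are killed by a power. -/
theorem exists_pow_dSmul_eq_zero (hM : Coh.IsQCoh M) {W : X.Opens} (hW : IsAffineOpen W) {U : S.Opens}
    (hU : IsAffineOpen U) (e : W ≤ f ⁻¹ᵁ U) {Q : T₀.Opens} (hQ : IsAffineOpen Q) (hQW : Q ≤ a₀ ⁻¹ᵁ W)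
    (h : Γ(T₀, ⊤)) {Q' : T₀.Opens} (hQ' : T₀.basicOpen (rO T₀ le_top h : Γ(T₀, Q)) = Q')
    (δ : Ders f a₀ M Q) (hδ : dRes (hQ'.ge.trans (T₀.basicOpen_le _)) δ = 0) :
    ∃ n : ℕ, dSmul (h ^ n) δ = 0 := by
  obtain ⟨t, ht⟩ : ∃ t : Γ(T₀, Q), t = rO T₀ le_top h := ⟨_, rfl⟩
  rw [← ht] at hQ'
  subst hQ'
  algebraize [(f.appLE U W e).hom, (a₀.appLE W Q hQW).hom]
  haveI : Algebra.FinitePresentation Γ(S, U) Γ(X, W) :=
    HasRingHomProperty.appLE @LocallyOfFinitePresentation f inferInstance ⟨U, hU⟩ ⟨W, hW⟩ e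
  letI := Module.compHom Γ(M, T₀.basicOpen t) (algebraMap Γ(T₀, Q) Γ(T₀, T₀.basicOpen t))
  haveI := H29Fitt.isLocalizedModule_resLin M hM hQ t
  obtain ⟨s, ⟨n, rfl⟩, hs⟩ := exists_smul_derivation_eq_zero (k := Γ(S, U)) (R := Γ(X, W))
    (Submonoid.powers t) (H29Fitt.resLin M t) (evalChart hQW δ) (evalChart_mul hQW δ) (evalChart_base hQW δ e)
    fun x => by
      refine (evalChart_dRes hQW (T₀.basicOpen_le t) δ x).symm.trans ?_
      rw [hδ]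
      exact map_zero (rM M (le_inf ((T₀.basicOpen_le t).trans hQW) le_rfl))
  refine ⟨n, evalChart_injective hW hQW (AddMonoidHom.ext fun x => ?_)⟩
  show evalChart hQW (dSmul (h ^ n) δ) x = evalChart hQW 0 x
  rw [evalChart_dSmul]
  simp only [sc, RingHom.map_pow, ← ht]
  exact (hs x).trans (map_zero (rM M (le_inf hQW le_rfl))).symm

/-- On an affine scheme, cocycles of derivations on a standard cover are coboundaries. -/
theorem acyclic_of_isAffine [IsAffine T₀] (hM : Coh.IsQCoh M) {ι : Type u} [Fintype ι] (P : ι → T₀.Opens)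
    (g : ι → Γ(T₀, ⊤)) (hP : ∀ j, P j = T₀.basicOpen (g j)) (hcov : iSup P = ⊤)
    (W : ι → X.Opens) (hW : ∀ j, IsAffineOpen (W j)) (U : ι → S.Opens) (hU : ∀ j, IsAffineOpen (U j))
    (e : ∀ j, W j ≤ f ⁻¹ᵁ U j) (hPW : ∀ j, P j ≤ a₀ ⁻¹ᵁ W j) : Acyclic f a₀ M P := by
  classical
  intro v hv
  have hPaff : ∀ j, IsAffineOpen (P j) := fun j => by rw [hP]; exact (isAffineOpen_top T₀).basicOpen _
  have hPP : ∀ j k, IsAffineOpen (P j ⊓ P k) := fun j k => by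
    rw [hP, hP, ← Scheme.basicOpen_mul]; exact (isAffineOpen_top T₀).basicOpen _
  have hbo : ∀ (Q : T₀.Opens) (k : ι), T₀.basicOpen (rO T₀ le_top (g k) : Γ(T₀, Q)) = Q ⊓ P k := fun Q k => by
    rw [hP]; exact Scheme.basicOpen_res _ _ _
  have hext : ∀ i k, ∃ (n : ℕ) (η : Ders f a₀ M (P i)),
      dRes inf_le_left η = dSmul (g k ^ n) (v i k) := fun i k =>
    exists_dRes_eq_pow hM (hW i) (hU i) (e i) (hPaff i) (hPW i) (g k) (hbo (P i) k) (v i k)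
  choose n η hη using hext
  obtain ⟨N, hN⟩ : ∃ N, ∀ i k, n i k ≤ N :=
    ⟨Finset.univ.sup fun p : ι × ι => n p.1 p.2, fun i k => Finset.le_sup (f := fun p : ι × ι => n p.1 p.2) (Finset.mem_univ (i, k))⟩
  let E := fun i k => dSmul (g k ^ (N - n i k)) (η i k)
  have hE : ∀ i k, dRes inf_le_left (E i k) = dSmul (g k ^ N) (v i k) := fun i k => by
    rw [dRes_dSmul, hη, dSmul_dSmul, ← pow_add, Nat.sub_add_cancel (hN i k)]
  have htor : ∀ i j k, ∃ m : ℕ, dSmul (g k ^ m)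
      (dRes (inf_le_left : P i ⊓ P j ≤ P i) (E i k) - dRes (inf_le_right : P i ⊓ P j ≤ P j) (E j k) -
        dSmul (g k ^ N) (v i j)) = 0 := by
    intro i j k
    refine exists_pow_dSmul_eq_zero hM (hW i) (hU i) (e i) (hPP i j) (inf_le_left.trans (hPW i)) (g k)
      (hbo _ k) _ ?_
    have hik : P i ⊓ P j ⊓ P k ≤ P i ⊓ P k := fun t ht => ⟨ht.1.1, ht.2⟩
    have hjk : P i ⊓ P j ⊓ P k ≤ P j ⊓ P k := fun t ht => ⟨ht.1.2, ht.2⟩
    have h1 := congrArg (dRes hik) (hE i k)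
    have h2 := congrArg (dRes hjk) (hE j k)
    rw [dRes_dRes] at h1 h2
    rw [map_sub, map_sub, dRes_dRes, dRes_dRes, h1, h2]
    simp only [dRes_dSmul]
    rw [← map_sub, ← map_sub,
      ← hv i j k (P i ⊓ P j ⊓ P k) (inf_le_left.trans inf_le_left) (inf_le_left.trans inf_le_right) inf_le_right]
    rw [add_sub_cancel_right, sub_self, map_zero]
  choose m hm using htor
  obtain ⟨M₁, hM₁⟩ : ∃ M₁, ∀ i j k, m i j k ≤ M₁ :=
    ⟨Finset.univ.sup fun p : ι × ι × ι => m p.1 p.2.1 p.2.2, fun i j k =>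
      Finset.le_sup (f := fun p : ι × ι × ι => m p.1 p.2.1 p.2.2) (Finset.mem_univ (i, j, k))⟩
  have hkey : ∀ i j k, dSmul (g k ^ M₁) (dRes (inf_le_left : P i ⊓ P j ≤ P i) (E i k)) -
      dSmul (g k ^ M₁) (dRes (inf_le_right : P i ⊓ P j ≤ P j) (E j k)) = dSmul (g k ^ (M₁ + N)) (v i j) := by
    intro i j k
    have h := congrArg (dSmul (g k ^ (M₁ - m i j k))) (hm i j k)
    rw [map_zero, dSmul_dSmul, ← pow_add, Nat.sub_add_cancel (hM₁ i j k), map_sub, map_sub, sub_eq_zero] at h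
    rw [h, dSmul_dSmul, ← pow_add]
  have hspan : Ideal.span (Set.range fun k => g k ^ (M₁ + N)) = ⊤ := by
    have h1 : Ideal.span (Set.range g) = ⊤ := (isAffineOpen_top T₀).iSup_basicOpen_eq_self_iff.1 (by
      exact (iSup_range' (fun x => T₀.basicOpen x) g).trans ((iSup_congr fun j => (hP j).symm).trans hcov))
    refine Ideal.span_pow_eq_top _ h1 (M₁ + N) |> fun h => le_antisymm le_top (h.ge.trans (Ideal.span_mono ?_))
    rintro _ ⟨_, ⟨k, rfl⟩, rfl⟩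
    exact ⟨k, rfl⟩
  obtain ⟨c, hc⟩ := Ideal.mem_span_range_iff_exists_fun.1 (hspan.ge (Submodule.mem_top : (1 : Γ(T₀, ⊤)) ∈ ⊤))
  refine ⟨fun i => -∑ k, dSmul (c k) (dSmul (g k ^ M₁) (E i k)), fun i j => ?_⟩
  simp only [map_neg, map_sum, dRes_dSmul]
  rw [neg_sub_neg, ← Finset.sum_sub_distrib]
  rw [Finset.sum_congr rfl fun k _ => show _ = dSmul (c k * g k ^ (M₁ + N)) (v i j) by
    rw [← map_sub, hkey, dSmul_dSmul]]
  rw [dSmul_sum, hc, dSmul_one]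

end Groth.Agent.H06Lift
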