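import Groth.Agent.H06Lift.Basic

/-!
# Lifts along square-zero closed immersions as families of ring homomorphisms
-/

set_option autoImplicit false
set_option linter.style.haveILetI false
set_option backward.isDefEq.respectTransparency false
universe u

open CategoryTheory CategoryTheory.Limits AlgebraicGeometry TopologicalSpace Opposite

namespace Groth.Agent.H06Lift

variable {S X T T₀ : Scheme.{u}} {f : X ⟶ S} {i : T₀ ⟶ T} [IsClosedImmersion i]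

/-- The open of `T` with a given trace on `T₀`. -/
noncomputable def upOpen (hsq : SqZero i) (P : T₀.Opens) : T.Opens :=
  ⟨(homeo hsq).symm ⁻¹' (P : Set T₀), P.isOpen.preimage (homeo hsq).symm.continuous⟩

variable (hsq : SqZero i)

theorem preimage_upOpen (P : T₀.Opens) : i ⁻¹ᵁ upOpen hsq P = P := by
  ext t
  show (homeo hsq).symm (i t) ∈ P ↔ t ∈ P
  rw [homeo_symm_apply]

theorem upOpen_le {P : T₀.Opens} {V : T.Opens} (h : P ≤ i ⁻¹ᵁ V) : upOpen hsq P ≤ V :=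
  eq_of_preimage_le hsq ((preimage_upOpen hsq P).le.trans h)

theorem upOpen_mono {P Q : T₀.Opens} (h : P ≤ Q) : upOpen hsq P ≤ upOpen hsq Q :=
  fun _ ht => h ht

variable (a₀ : T₀ ⟶ X)

theorem pre_inf (W : X.Opens) {V : T.Opens} {P : T₀.Opens} (h : i ⁻¹ᵁ V = P) :
    i ⁻¹ᵁ (upOpen hsq (a₀ ⁻¹ᵁ W) ⊓ V) = a₀ ⁻¹ᵁ W ⊓ P := by
  subst h
  exact congrArg (· ⊓ i ⁻¹ᵁ V) (preimage_upOpen hsq (a₀ ⁻¹ᵁ W))

theorem pre_inf_le (W : X.Opens) (V : T.Opens) :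
    i ⁻¹ᵁ (upOpen hsq (a₀ ⁻¹ᵁ W) ⊓ V) ≤ a₀ ⁻¹ᵁ W :=
  (i.preimage_mono inf_le_left).trans (preimage_upOpen hsq _).le

variable (f) (a : T ⟶ S) (hsqr : a₀ ≫ f = i ≫ a)

include hsqr in
theorem upOpen_preimage_eq (Y : S.Opens) : upOpen hsq (a₀ ⁻¹ᵁ (f ⁻¹ᵁ Y)) = a ⁻¹ᵁ Y := by
  have h : a₀ ⁻¹ᵁ (f ⁻¹ᵁ Y) = i ⁻¹ᵁ (a ⁻¹ᵁ Y) := by
    rw [← Scheme.Hom.comp_preimage, ← Scheme.Hom.comp_preimage, hsqr]
  exact le_antisymm (upOpen_le hsq h.le)
    (eq_of_preimage_le hsq (h.ge.trans (preimage_upOpen hsq _).ge))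

/-- Lifts over an open as families of ring homomorphisms. -/
structure IsFam (V : T.Opens)
    (β : ∀ W : X.Opens, Γ(X, W) →+* Γ(T, upOpen hsq (a₀ ⁻¹ᵁ W) ⊓ V)) : Prop where
  res : ∀ (W W' : X.Opens) (h : W' ≤ W) (x : Γ(X, W)),
    β W' (rO X h x) = rO T (inf_le_inf (upOpen_mono hsq (a₀.preimage_mono h)) le_rfl) (β W x)
  red : ∀ (W : X.Opens) (x : Γ(X, W)),
    i.app _ (β W x) = rO T₀ (pre_inf_le hsq a₀ W V) (a₀.app W x)
  base : ∀ (Y : S.Opens) (c : Γ(S, Y)), β (f ⁻¹ᵁ Y) (f.app Y c) =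
    rO T (inf_le_left.trans (upOpen_preimage_eq f hsq a₀ a hsqr Y).le) (a.app Y c)

theorem app_rO {Y Z : Scheme.{u}} (g : Z ⟶ Y) {U U' : Y.Opens} (h : U' ≤ U) (x : Γ(Y, U)) :
    g.app U' (rO Y h x) = rO Z (g.preimage_mono h) (g.app U x) :=
  congr($(g.naturality (homOfLE h).op) x)

variable {f a₀ a hsqr}

theorem IsFam.resFam {V V' : T.Opens} {β : ∀ W : X.Opens, Γ(X, W) →+* Γ(T, upOpen hsq (a₀ ⁻¹ᵁ W) ⊓ V)}
    (hβ : IsFam f hsq a₀ a hsqr V β) (h : V' ≤ V) :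
    IsFam f hsq a₀ a hsqr V' fun W => (rO T (inf_le_inf le_rfl h)).comp (β W) where
  res W W' e x := by simp only [RingHom.comp_apply, hβ.res W W' e x, rO_rO]
  red W x := by rw [RingHom.comp_apply, app_rO, hβ.red, rO_rO]
  base Y c := by rw [RingHom.comp_apply, hβ.base, rO_rO]

variable {M : T₀.Modules} (κ : Kappa i M)

/-- The difference of two lifts is a derivation. -/
theorem exists_diff {V : T.Opens} {P : T₀.Opens} (hP : i ⁻¹ᵁ V = P)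
    {β γ : ∀ W : X.Opens, Γ(X, W) →+* Γ(T, upOpen hsq (a₀ ⁻¹ᵁ W) ⊓ V)}
    (hβ : IsFam f hsq a₀ a hsqr V β) (hγ : IsFam f hsq a₀ a hsqr V γ) :
    ∃ δ : Ders f a₀ M P, ∀ (W : X.Opens) (x : Γ(X, W)),
      κ.at' _ _ (pre_inf hsq a₀ W hP) (δ.1 W x) = γ W x - β W x := by
  have hk : ∀ (W : X.Opens) (x : Γ(X, W)), i.app _ (γ W x - β W x) = 0 := fun W x => by
    rw [map_sub, hβ.red, hγ.red, sub_self]
  choose d hd using fun W x => κ.exists_at'_eq _ _ (pre_inf hsq a₀ W hP) _ (hk W x)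
  have hinj := fun W => κ.at'_injective _ _ (pre_inf hsq a₀ W hP)
  have hadd : ∀ W x y, d W (x + y) = d W x + d W y := fun W x y => hinj W (by
    rw [map_add, hd, hd, hd, map_add, map_add]; abel)
  refine ⟨⟨fun W => AddMonoidHom.mk' (d W) (hadd W), fun W W' e x => hinj W' ?_, fun W x y => hinj W ?_,
    fun Y c => hinj _ ?_⟩, hd⟩
  · show κ.at' _ _ _ (d W' (rO X e x)) = κ.at' _ _ _ (rM M _ (d W x))
    rw [hd, κ.at'_res (pre_inf hsq a₀ W hP) (pre_inf hsq a₀ W' hP)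
      (inf_le_inf (upOpen_mono hsq (a₀.preimage_mono e)) le_rfl), hd, map_sub, hγ.res W W' e, hβ.res W W' e]
  · show κ.at' _ _ _ (d W (x * y)) = κ.at' _ _ _ (_ • d W y + _ • d W x)
    rw [map_add, κ.at'_smul _ _ _ (γ W x) _ ((hγ.red W x).trans (rO_rO _ _ _).symm),
      κ.at'_smul _ _ _ (β W y) _ ((hβ.red W y).trans (rO_rO _ _ _).symm), hd, hd, hd, map_mul, map_mul]
    ring
  · show κ.at' _ _ _ (d _ (f.app Y c)) = κ.at' _ _ _ 0
    rw [hd, map_zero, hγ.base, hβ.base, sub_self]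

/-- A lift modified by a derivation is a lift. -/
theorem exists_add {V : T.Opens} {P : T₀.Opens} (hP : i ⁻¹ᵁ V = P)
    {β : ∀ W : X.Opens, Γ(X, W) →+* Γ(T, upOpen hsq (a₀ ⁻¹ᵁ W) ⊓ V)}
    (hβ : IsFam f hsq a₀ a hsqr V β) (δ : Ders f a₀ M P) :
    ∃ γ, IsFam f hsq a₀ a hsqr V γ ∧ ∀ (W : X.Opens) (x : Γ(X, W)),
      γ W x = β W x + κ.at' _ _ (pre_inf hsq a₀ W hP) (δ.1 W x) := by
  let e := fun (W : X.Opens) x => κ.at' _ _ (pre_inf hsq a₀ W hP) (δ.1 W x)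
  have hmul : ∀ W x y, e W (x * y) = β W x * e W y + β W y * e W x := fun W x y => by
    show κ.at' _ _ _ (δ.1 W (x * y)) = _
    rw [δ.2.mul, map_add, κ.at'_smul _ _ _ (β W x) _ ((hβ.red W x).trans (rO_rO _ _ _).symm),
      κ.at'_smul _ _ _ (β W y) _ ((hβ.red W y).trans (rO_rO _ _ _).symm)]
  have hzero : ∀ W x y, e W x * e W y = 0 := fun W x y =>
    κ.mul_eq_zero (κ.at'_mem_ker _ _ _ _) (κ.at'_mem_ker _ _ _ _)
  have hone : ∀ W, e W 1 = 0 := fun W => by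
    have h := hmul W 1 1
    rw [mul_one, map_one, one_mul] at h
    exact left_eq_add.1 h
  refine ⟨fun W =>
    { toFun := fun x => β W x + e W x
      map_one' := by rw [hone, map_one, add_zero]
      map_mul' := fun x y => by rw [hmul, map_mul]; linear_combination -(hzero W x y)
      map_zero' := by
        show β W 0 + κ.at' _ _ _ (δ.1 W 0) = 0
        rw [map_zero, map_zero, map_zero, add_zero]
      map_add' := fun x y => by
        show β W (x + y) + κ.at' _ _ _ (δ.1 W (x + y)) = _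
        rw [map_add, map_add, map_add]
        exact add_add_add_comm _ _ _ _ }, ⟨fun W W' h x => ?_, fun W x => ?_, fun Y c => ?_⟩, fun W x => rfl⟩
  · show β W' (rO X h x) + κ.at' _ _ _ (δ.1 W' (rO X h x)) = rO T _ (β W x + e W x)
    rw [δ.2.res W W' h, κ.at'_res (pre_inf hsq a₀ W hP) (pre_inf hsq a₀ W' hP)
      (inf_le_inf (upOpen_mono hsq (a₀.preimage_mono h)) le_rfl), hβ.res W W' h, map_add]
  · show i.app _ (β W x + e W x) = _
    rw [map_add, hβ.red, κ.at'_mem_ker, add_zero]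
  · show β _ (f.app Y c) + κ.at' _ _ _ (δ.1 _ (f.app Y c)) = _
    rw [δ.2.base, map_zero, add_zero, hβ.base]

/-- The family of a lift over an open. -/
theorem exists_fam {U : T.Opens} (b : (U : Scheme.{u}) ⟶ X) (hb₁ : b ≫ f = U.ι ≫ a)
    (hb₂ : (i ∣_ U) ≫ b = (i ⁻¹ᵁ U).ι ≫ a₀) :
    ∃ β, IsFam f hsq a₀ a hsqr U β := by
  have htop : ∀ W : X.Opens, upOpen hsq (a₀ ⁻¹ᵁ W) ⊓ U ≤ U.ι ''ᵁ (b ⁻¹ᵁ W) := by
    rintro W t ⟨htW, htU⟩
    obtain ⟨t₀, rfl⟩ := surjective_of_sqZero hsq t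
    refine ⟨⟨i t₀, htU⟩, ?_, rfl⟩
    have h := congr($(hb₂) ⟨t₀, htU⟩)
    show b ⟨i t₀, htU⟩ ∈ W
    have e : (i ∣_ U) ⟨t₀, htU⟩ = ⟨i t₀, htU⟩ := Subtype.ext (morphismRestrict_base_coe i U _)
    rw [Scheme.Hom.comp_apply, e] at h
    rw [h]
    have : t₀ ∈ a₀ ⁻¹ᵁ W := (preimage_upOpen hsq (a₀ ⁻¹ᵁ W)).le htW
    exact this
  have hpre : ∀ W : X.Opens, (i ∣_ U) ⁻¹ᵁ (b ⁻¹ᵁ W) = (i ⁻¹ᵁ U).ι ⁻¹ᵁ (a₀ ⁻¹ᵁ W) := fun W => by
    rw [← Scheme.Hom.comp_preimage, hb₂, Scheme.Hom.comp_preimage]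
  refine ⟨fun W => (rO T (htop W)).comp (b.app W).hom, fun W W' h x => ?_, fun W x => ?_, fun Y c => ?_⟩
  · show rO T (htop W') (b.app W' (rO X h x)) = rO T _ (rO T (htop W) (b.app W x))
    rw [app_rO]
    refine Eq.trans ?_ (rO_rO (X := T) _ _ _).symm
    exact rO_rO (X := T) (U.ι.image_mono (b.preimage_mono h)) (htop W') (b.app W x)
  · show i.app _ (rO T (htop W) (b.app W x)) = _
    rw [app_rO]
    have h := congr($(Scheme.Hom.congr_app hb₂ W) x)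
    simp only [Scheme.Hom.comp_app, morphismRestrict_app, CommRingCat.hom_comp, RingHom.comp_apply,
      Scheme.Opens.toScheme_presheaf_map, Scheme.Opens.ι_app, CommRingCat.comp_apply] at h
    have hle : i ⁻¹ᵁ (upOpen hsq (a₀ ⁻¹ᵁ W) ⊓ U) ≤ (i ⁻¹ᵁ U).ι ''ᵁ ((i ∣_ U) ⁻¹ᵁ (b ⁻¹ᵁ W)) := by
      rw [image_morphismRestrict_preimage]
      exact i.preimage_mono (htop W)
    have h' := congrArg (T₀.presheaf.map (homOfLE hle).op) h
    simp only [ConcreteCategory.comp_apply, CommRingCat.comp_apply] at h'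
    exact ((rO_rO (X := T₀) _ _ _).symm.trans h').trans ((rO_rO (X := T₀) _ _ _).trans (rO_rO (X := T₀) _ _ _))
  · show rO T (htop _) (b.app (f ⁻¹ᵁ Y) (f.app Y c)) = _
    have h := congr($(Scheme.Hom.congr_app hb₁ Y) c)
    simp only [Scheme.Hom.comp_app, Scheme.Opens.toScheme_presheaf_map, Scheme.Opens.ι_app,
      CommRingCat.hom_comp, RingHom.comp_apply] at h
    rw [show b.app (f ⁻¹ᵁ Y) (f.app Y c) = _ from h]
    exact (rO_rO (X := T) _ _ _).trans (rO_rO (X := T) _ _ _)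

/-- A global family gives a global lift. -/
theorem exists_hom {β : ∀ W : X.Opens, Γ(X, W) →+* Γ(T, upOpen hsq (a₀ ⁻¹ᵁ W) ⊓ ⊤)}
    (hβ : IsFam f hsq a₀ a hsqr ⊤ β) : ∃ b : T ⟶ X, b ≫ f = a ∧ i ≫ b = a₀ := by
  let ψ : (T.toPresheafedSpace : TopCat.{u}) ⟶ (X.toPresheafedSpace : TopCat.{u}) :=
    TopCat.ofHom ⟨fun t => a₀ ((homeo hsq).symm t), a₀.continuous.comp (homeo hsq).symm.continuous⟩
  have htop : ∀ W : X.Opens, upOpen hsq (a₀ ⁻¹ᵁ W) ≤ upOpen hsq (a₀ ⁻¹ᵁ W) ⊓ ⊤ := fun W => le_inf le_rfl le_top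
  let β' : ∀ W : X.Opens, Γ(X, W) →+* Γ(T, upOpen hsq (a₀ ⁻¹ᵁ W)) := fun W => (rO T (htop W)).comp (β W)
  have hres : ∀ (W W' : X.Opens) (h : W' ≤ W) (x : Γ(X, W)),
      β' W' (rO X h x) = rO T (upOpen_mono hsq (a₀.preimage_mono h)) (β' W x) := fun W W' h x => by
    show rO T _ (β W' _) = rO T _ (rO T _ (β W x))
    rw [hβ.res W W' h, rO_rO, rO_rO]
  have hred : ∀ (W : X.Opens) (x : Γ(X, W)),
      i.app _ (β' W x) = rO T₀ (preimage_upOpen hsq _).le (a₀.app W x) := fun W x => by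
    show i.app _ (rO T _ (β W x)) = _
    rw [app_rO, hβ.red, rO_rO]
  let c : X.presheaf ⟶ ψ _* T.presheaf :=
    { app := fun W => CommRingCat.ofHom (β' W.unop)
      naturality := fun W W' h => CommRingCat.hom_ext (RingHom.ext fun x => hres W.unop W'.unop h.unop.le x) }
  have hloc : ∀ t, IsLocalHom ((PresheafedSpace.Hom.mk ψ c :
      T.toPresheafedSpace ⟶ X.toPresheafedSpace).stalkMap t).hom := by
    intro t
    refine ⟨fun s hs => ?_⟩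
    obtain ⟨W, hW, x, rfl⟩ := X.presheaf.exists_germ_eq s
    rw [PresheafedSpace.stalkMap_germ_apply] at hs
    obtain ⟨t₀, rfl⟩ := surjective_of_sqZero hsq t
    have h1 : t₀ ∈ i ⁻¹ᵁ T.basicOpen (β' W x) := (Scheme.mem_basicOpen _ _ _ _).2 hs
    rw [Scheme.preimage_basicOpen, hred, Scheme.basicOpen_res, ← Scheme.preimage_basicOpen] at h1
    refine (Scheme.mem_basicOpen _ _ _ hW).1 ?_
    show a₀ ((homeo hsq).symm (i t₀)) ∈ X.basicOpen x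
    rw [homeo_symm_apply]
    exact h1.2
  let b : T ⟶ X := ⟨⟨⟨ψ, c⟩, hloc⟩⟩
  refine ⟨b, Scheme.Hom.ext ?_ fun Y => ?_, Scheme.Hom.ext ?_ fun W => ?_⟩
  · ext t
    obtain ⟨t₀, rfl⟩ := surjective_of_sqZero hsq t
    show f (a₀ ((homeo hsq).symm (i t₀))) = a (i t₀)
    rw [homeo_symm_apply, ← Scheme.Hom.comp_apply, ← Scheme.Hom.comp_apply, hsqr]
  · refine CommRingCat.hom_ext (RingHom.ext fun cY => ?_)
    show rO T _ (β' (f ⁻¹ᵁ Y) (f.app Y cY)) = a.app Y cY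
    show rO T _ (rO T _ (β _ (f.app Y cY))) = _
    rw [hβ.base, rO_rO, rO_rO]
    exact rO_self _ _
  · ext t
    show a₀ ((homeo hsq).symm (i t)) = a₀ t
    rw [homeo_symm_apply]
  · refine CommRingCat.hom_ext (RingHom.ext fun x => ?_)
    show rO T₀ _ (i.app _ (β' W x)) = a₀.app W x
    rw [hred, rO_rO]
    exact rO_self _ _

include hsq hsqr in
/-- Gluing: if every cocycle of derivations is a coboundary, local lifts give a global one. -/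
theorem exists_lift {ι : Type u} (U : ι → T.Opens) (hU : iSup U = ⊤) (b : ∀ j, (↑(U j) : Scheme.{u}) ⟶ X)
    (hb₁ : ∀ j, b j ≫ f = (U j).ι ≫ a) (hb₂ : ∀ j, (i ∣_ U j) ≫ b j = (i ⁻¹ᵁ U j).ι ≫ a₀)
    (κ : Kappa i M) (hac : Acyclic f a₀ M fun j => i ⁻¹ᵁ U j) :
    ∃ b' : T ⟶ X, b' ≫ f = a ∧ i ≫ b' = a₀ := by
  choose β hβ using fun j => exists_fam (hsq := hsq) (hsqr := hsqr) (b j) (hb₁ j) (hb₂ j)
  choose v hv using fun j k => exists_diff hsq κ (P := i ⁻¹ᵁ U j ⊓ i ⁻¹ᵁ U k) rfl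
    ((hβ j).resFam hsq (inf_le_left (b := U k))) ((hβ k).resFam hsq (inf_le_right (a := U j)))
  have hv' : ∀ (j k : ι) (Q : T₀.Opens) (VQ : T.Opens) (hQ : i ⁻¹ᵁ VQ = Q) (hj : Q ≤ i ⁻¹ᵁ U j)
      (hk : Q ≤ i ⁻¹ᵁ U k) (hj' : VQ ≤ U j) (hk' : VQ ≤ U k) (W : X.Opens) (x : Γ(X, W)),
      κ.at' _ _ (pre_inf hsq a₀ W hQ) ((dRes (le_inf hj hk) (v j k)).1 W x) =
        rO T (inf_le_inf le_rfl hk') (β k W x) - rO T (inf_le_inf le_rfl hj') (β j W x) := by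
    intro j k Q VQ hQ hj hk hj' hk' W x
    rw [dRes_apply, κ.at'_res (pre_inf hsq a₀ W (V := U j ⊓ U k) (P := i ⁻¹ᵁ U j ⊓ i ⁻¹ᵁ U k) rfl) (pre_inf hsq a₀ W hQ)
      (inf_le_inf le_rfl (le_inf hj' hk')), hv, map_sub, RingHom.comp_apply, RingHom.comp_apply, rO_rO, rO_rO]
  obtain ⟨y, hy⟩ := hac v fun i₁ j k Q h1 h2 h3 => Subtype.ext (funext fun W => AddMonoidHom.ext fun x =>
    κ.at'_injective _ _ (pre_inf hsq a₀ W (preimage_upOpen hsq Q)) (by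
      show κ.at' _ _ _ ((dRes (le_inf h1 h2) (v i₁ j)).1 W x + (dRes (le_inf h2 h3) (v j k)).1 W x) = _
      rw [map_add, hv' i₁ j Q (upOpen hsq Q) (preimage_upOpen hsq Q) h1 h2 (upOpen_le hsq h1) (upOpen_le hsq h2),
        hv' j k Q (upOpen hsq Q) (preimage_upOpen hsq Q) h2 h3 (upOpen_le hsq h2) (upOpen_le hsq h3),
        hv' i₁ k Q (upOpen hsq Q) (preimage_upOpen hsq Q) h1 h3 (upOpen_le hsq h1) (upOpen_le hsq h3)]
      ring))
  choose γ hγ hγ' using fun j => exists_add hsq κ (P := i ⁻¹ᵁ U j) rfl (hβ j) (-(y j))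
  have hagree : ∀ (j k : ι) (W : X.Opens) (x : Γ(X, W)),
      rO T (inf_le_inf le_rfl (inf_le_left : U j ⊓ U k ≤ U j)) (γ j W x) =
        rO T (inf_le_inf le_rfl (inf_le_right : U j ⊓ U k ≤ U k)) (γ k W x) := by
    intro j k W x
    have h1 := congrArg (κ.at' _ _ (pre_inf hsq a₀ W (V := U j ⊓ U k) (P := i ⁻¹ᵁ U j ⊓ i ⁻¹ᵁ U k) rfl))
      (congr($(congrArg (fun d : Ders f a₀ M (i ⁻¹ᵁ U j ⊓ i ⁻¹ᵁ U k) => d.1 W) (hy j k)) x))
    rw [hv] at h1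
    simp only [AddSubgroup.coe_sub, Pi.sub_apply, AddMonoidHom.sub_apply, map_sub, dRes_apply] at h1
    rw [κ.at'_res (pre_inf hsq a₀ W (V := U k) rfl) _ (inf_le_inf le_rfl (inf_le_right : U j ⊓ U k ≤ U k)),
      κ.at'_res (pre_inf hsq a₀ W (V := U j) rfl) _ (inf_le_inf le_rfl (inf_le_left : U j ⊓ U k ≤ U j))] at h1
    simp only [RingHom.comp_apply] at h1
    rw [hγ', hγ']
    simp only [NegMemClass.coe_neg, Pi.neg_apply, AddMonoidHom.neg_apply, map_add, map_neg]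
    linear_combination h1
  let O := fun (W : X.Opens) (j : ι) => upOpen hsq (a₀ ⁻¹ᵁ W) ⊓ U j
  have hle : ∀ W j, O W j ≤ upOpen hsq (a₀ ⁻¹ᵁ W) ⊓ ⊤ := fun W j => inf_le_inf le_rfl le_top
  have hcov : ∀ W, upOpen hsq (a₀ ⁻¹ᵁ W) ⊓ ⊤ ≤ iSup (O W) := fun W t ht => by
    obtain ⟨j, hj⟩ := Opens.mem_iSup.1 (hU.ge (Opens.mem_top t))
    exact Opens.mem_iSup.2 ⟨j, ht.1, hj⟩
  have hglue : ∀ (W : X.Opens) (x : Γ(X, W)), ∃ s, ∀ j, rO T (hle W j) s = γ j W x := by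
    intro W x
    obtain ⟨s, hs, -⟩ := T.sheaf.existsUnique_gluing' (O W) (upOpen hsq (a₀ ⁻¹ᵁ W) ⊓ ⊤)
      (fun j => homOfLE (hle W j)) (hcov W) (fun j => γ j W x) fun j k => by
        have hjk : O W j ⊓ O W k ≤ upOpen hsq (a₀ ⁻¹ᵁ W) ⊓ (U j ⊓ U k) := fun t ht => ⟨ht.1.1, ht.1.2, ht.2.2⟩
        have h := congrArg (rO T hjk) (hagree j k W x)
        rw [rO_rO, rO_rO] at h
        exact h
    exact ⟨s, hs⟩
  choose g hg using hglue
  have hext : ∀ (W : X.Opens) (s s' : Γ(T, upOpen hsq (a₀ ⁻¹ᵁ W) ⊓ ⊤)),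
      (∀ j, rO T (hle W j) s = rO T (hle W j) s') → s = s' := fun W s s' h => eq_of_coverO (O W) _ (hle W) (hcov W) h
  refine exists_hom (hsq := hsq) (hsqr := hsqr) (β := fun W =>
    { toFun := g W
      map_one' := hext W _ _ fun j => by rw [hg, map_one, map_one]
      map_mul' := fun x y => hext W _ _ fun j => by rw [hg, map_mul, map_mul, hg, hg]
      map_zero' := hext W _ _ fun j => by rw [hg, map_zero, map_zero]
      map_add' := fun x y => hext W _ _ fun j => by rw [hg, map_add, map_add, hg, hg] })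
    ⟨fun W W' h x => hext W' _ _ fun j => ?_, fun W x => ?_, fun Y c => hext _ _ _ fun j => ?_⟩
  · show rO T _ (g W' (rO X h x)) = rO T _ (rO T _ (g W x))
    rw [hg, (hγ j).res W W' h, ← hg W x j, rO_rO, rO_rO]
  · refine eq_of_coverO (fun j => i ⁻¹ᵁ O W j) _ (fun j => i.preimage_mono (hle W j)) (fun t ht => ?_) fun j => ?_
    · obtain ⟨j, hj⟩ := Opens.mem_iSup.1 (hcov W (show i t ∈ _ from ht))
      exact Opens.mem_iSup.2 ⟨j, hj⟩
    · show rO T₀ _ (i.app _ (g W x)) = _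
      rw [← app_rO i (hle W j), hg, (hγ j).red, rO_rO]
  · show rO T _ (g _ (f.app Y c)) = _
    rw [hg, (hγ j).base, rO_rO]

end Groth.Agent.H06Lift
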