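import Groth.Agent.H06Lift.Basic
import Groth.Agent.H10Coh.SheafHom.Pullback
import Groth.Agent.H10Coh.Affine
import Groth.Agent.H10Coh.Pn.Results
import Groth.Agent.H12Pic.PicCurve.CechTwo
import Groth.Prelude.Def_DCoh4

/-!
# Derivations into `M` as sections of `𝓗om(a₀^*Ω, M)`
-/

set_option autoImplicit false
set_option linter.style.haveILetI false
set_option backward.isDefEq.respectTransparency false
universe u

open CategoryTheory CategoryTheory.Limits AlgebraicGeometry TopologicalSpace Opposite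

namespace Groth.Agent.H06Lift

open Groth.Agent.H29Ref Groth.Agent.H10Coh

variable {S X T₀ : Scheme.{u}} {f : X ⟶ S} (a₀ : T₀ ⟶ X) {Ω : X.Modules} (d : OmegaSh.Der f Ω)
  (M : T₀.Modules)

/-- The value of a section of the sheaf Hom on a pulled-back differential. -/
noncomputable def homVal {P : T₀.Opens} (s : Γ(RefHull.homSh ((Scheme.Modules.pullback a₀).obj Ω) M, P))
    (W : X.Opens) (x : Γ(X, W)) : Γ(M, a₀ ⁻¹ᵁ W ⊓ P) :=
  toLin (rM (RefHull.homSh ((Scheme.Modules.pullback a₀).obj Ω) M) inf_le_right s)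
    (rM ((Scheme.Modules.pullback a₀).obj Ω) inf_le_left (OmegaSh.pullSect a₀ Ω W (d.app W x)))

theorem homVal_add {P : T₀.Opens} (s : Γ(RefHull.homSh ((Scheme.Modules.pullback a₀).obj Ω) M, P))
    (W : X.Opens) (x y : Γ(X, W)) :
    homVal a₀ d M s W (x + y) = homVal a₀ d M s W x + homVal a₀ d M s W y := by
  simp only [homVal, map_add]

theorem isDer_homVal {P : T₀.Opens} (s : Γ(RefHull.homSh ((Scheme.Modules.pullback a₀).obj Ω) M, P)) :
    IsDer f a₀ M P fun W => AddMonoidHom.mk' (homVal a₀ d M s W) (homVal_add a₀ d M s W) where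
  res W W' h x := by
    show homVal a₀ d M s W' (rO X h x) = rM M _ (homVal a₀ d M s W x)
    refine Eq.trans ?_ (SheafHom.toLin_res (inf_le_inf (a₀.preimage_mono h) le_rfl) _ _)
    show toLin (rM _ inf_le_right s) (rM _ inf_le_left _) = toLin (rM _ _ (rM _ inf_le_right s)) (rM _ _ (rM _ inf_le_left _))
    rw [rM_rM, rM_rM, show d.app W' (rO X h x) = rM Ω h (d.app W x) from d.d_map (homOfLE h).op x]
    congr 1
    rw [show OmegaSh.pullSect a₀ Ω W' (rM Ω h (d.app W x)) = _ from OmegaSh.pullSect_map a₀ Ω h _]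
    exact rM_rM _ _ _
  mul W x y := by
    show homVal a₀ d M s W (x * y) = _ • homVal a₀ d M s W y + _ • homVal a₀ d M s W x
    simp only [homVal]
    rw [show d.app W (x * y) = x • d.app W y + y • d.app W x from d.d_mul x y, map_add, OmegaSh.pullSect_smul,
      OmegaSh.pullSect_smul, map_add, rM_smul, rM_smul, map_add, map_smul, map_smul]
  base Y c := by
    show homVal a₀ d M s _ (f.app Y c) = 0
    simp only [homVal]
    rw [show d.app (f ⁻¹ᵁ Y) (f.app Y c) = 0 from d.d_app (X := op Y) c, map_zero, map_zero, map_zero]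

/-- Sections of the sheaf Hom give derivations. -/
noncomputable def homToDers (P : T₀.Opens) :
    Γ(RefHull.homSh ((Scheme.Modules.pullback a₀).obj Ω) M, P) →+ Ders f a₀ M P :=
  AddMonoidHom.mk' (fun s => ⟨_, isDer_homVal a₀ d M s⟩) fun s t =>
    Subtype.ext (funext fun W => AddMonoidHom.ext fun x => by
      show homVal a₀ d M (s + t) W x = homVal a₀ d M s W x + homVal a₀ d M t W x
      simp only [homVal, map_add]
      exact LinearMap.congr_fun (map_add (toLinₗ _ _ _) _ _) _)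

theorem homToDers_apply (P : T₀.Opens) (s : Γ(RefHull.homSh ((Scheme.Modules.pullback a₀).obj Ω) M, P))
    (W : X.Opens) (x : Γ(X, W)) : (homToDers a₀ d M P s).1 W x = homVal a₀ d M s W x := rfl

theorem homToDers_res {P Q : T₀.Opens} (h : Q ≤ P)
    (s : Γ(RefHull.homSh ((Scheme.Modules.pullback a₀).obj Ω) M, P)) :
    homToDers a₀ d M Q (rM _ h s) = dRes h (homToDers a₀ d M P s) :=
  Subtype.ext (funext fun W => AddMonoidHom.ext fun x => by
    rw [dRes_apply, homToDers_apply, homToDers_apply]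
    refine Eq.trans ?_ (SheafHom.toLin_res (inf_le_inf le_rfl h) _ _)
    show toLin (rM _ inf_le_right (rM _ h s)) (rM _ inf_le_left _) =
      toLin (rM _ _ (rM _ inf_le_right s)) (rM _ _ (rM _ inf_le_left _))
    rw [rM_rM, rM_rM, rM_rM])

/-- `M` restricted to `P`, pushed back to `T₀`. -/
noncomputable abbrev extRes (P : T₀.Opens) : T₀.Modules :=
  (Scheme.Modules.pushforward P.ι).obj (M.restrict P.ι)

theorem extRes_smul (P U : T₀.Opens) (r : Γ(T₀, U)) (n : Γ(extRes M P, U)) :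
    r • n = (rO T₀ (P.ι.image_preimage_le U) r • (show Γ(M, P.ι ''ᵁ P.ι ⁻¹ᵁ U) from n) :
      Γ(M, P.ι ''ᵁ P.ι ⁻¹ᵁ U)) := by
  show ((P.ι.appIso (P.ι ⁻¹ᵁ U)).inv (P.ι.app U r) : Γ(T₀, P.ι ''ᵁ P.ι ⁻¹ᵁ U)) •
    (show Γ(M, P.ι ''ᵁ P.ι ⁻¹ᵁ U) from n) = _
  rw [← ConcreteCategory.comp_apply, Scheme.Hom.app_appIso_inv]
  rfl

theorem image_preimage_ι {P Q : T₀.Opens} (h : Q ≤ P) : P.ι ''ᵁ P.ι ⁻¹ᵁ Q = Q := by
  rw [Scheme.Hom.image_preimage_eq_opensRange_inf, Scheme.Opens.opensRange_ι]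
  exact inf_eq_right.2 h

theorem ι_image_preimage_le (P U : T₀.Opens) : P.ι ''ᵁ P.ι ⁻¹ᵁ U ≤ U ⊓ P := by
  rw [Scheme.Hom.image_preimage_eq_opensRange_inf, Scheme.Opens.opensRange_ι, inf_comm]

theorem rM_bijective {N : T₀.Modules} {A B : T₀.Opens} (h : B ≤ A) (e : A = B) :
    Function.Bijective (rM N h) := by
  subst e
  rw [show (rM N h : _ → _) = id from funext fun x => rM_self h x]
  exact Function.bijective_id

/-- The morphism attached to a section of the sheaf Hom. -/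
theorem exists_toExtRes {E : T₀.Modules} {P : T₀.Opens} (s : Γ(RefHull.homSh E M, P)) :
    ∃ φ : E ⟶ extRes M P, ∀ (U : T₀.Opens) (m : Γ(E, U)), φ.app U m =
      rM M (ι_image_preimage_le P U)
        (toLin (rM (RefHull.homSh E M) inf_le_right s) (rM E inf_le_left m)) := by
  obtain ⟨φ, hφ⟩ := H17.PrinOmega.exists_hom_of_basis E (extRes M P) (fun _ => True)
    (fun W x hx => ⟨W, trivial, hx, le_rfl⟩)
    (fun U _ =>
      { toFun := fun m => rM M (ι_image_preimage_le P U)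
          (toLin (rM (RefHull.homSh E M) inf_le_right s) (rM E inf_le_left m))
        map_add' := fun m m' => by rw [map_add, map_add, map_add]
        map_smul' := fun r m => by
          rw [RingHom.id_apply, extRes_smul, rM_smul, map_smul, rM_smul, rO_rO] })
    fun U U' _ _ e m => by
      show rM M _ (toLin (rM _ _ s) (rM E _ (rM E e m))) =
        rM M (P.ι.image_mono (P.ι.preimage_mono e)) (rM M _ (toLin (rM _ _ s) (rM E _ m)))
      rw [rM_rM _ _ m, rM_rM (M := M), ← rM_rM (inf_le_inf e le_rfl : U' ⊓ P ≤ U ⊓ P) (ι_image_preimage_le P U'),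
        show rM M (inf_le_inf e le_rfl : U' ⊓ P ≤ U ⊓ P) (toLin _ _) = _ from (SheafHom.toLin_res _ _ _).symm]
      congr 2 <;> exact (rM_rM _ _ _).symm
  exact ⟨φ, fun U m => hφ U trivial m⟩

theorem homToDers_injective (hd : OmegaSh.IsUniversal d) (P : T₀.Opens) :
    Function.Injective (homToDers a₀ d M P) := by
  rw [injective_iff_map_eq_zero]
  intro s hs
  let E := (Scheme.Modules.pullback a₀).obj Ω
  let adj := Scheme.Modules.pullbackPushforwardAdjunction a₀
  obtain ⟨φ, hφ⟩ := exists_toExtRes M s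
  have hz : ∀ (W : X.Opens) (x : Γ(X, W)),
      φ.app (a₀ ⁻¹ᵁ W) (OmegaSh.pullSect a₀ Ω W (d.app W x)) = 0 := fun W x => by
    rw [hφ]
    have h := congr($(congrArg (fun δ : Ders f a₀ M P => δ.1 W) hs) x)
    exact (congrArg (rM M _) h).trans (map_zero _)
  let α := adj.homEquiv _ _ φ
  have hα : PresheafOfModules.Derivation.postcomp d α.val =
      PresheafOfModules.Derivation.postcomp d (0 : Ω ⟶ _).val := by
    refine PresheafOfModules.Derivation.ext (funext fun W => AddMonoidHom.ext fun x => ?_)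
    show α.app W.unop (d.app W.unop x) = 0
    rw [show α = _ from adj.homEquiv_unit ..]
    exact hz W.unop x
  have hα0 : α = 0 := by
    obtain ⟨γ, -, huniq⟩ := hd _ (PresheafOfModules.Derivation.postcomp d (0 : Ω ⟶ _).val)
    exact (huniq α hα).trans (huniq 0 rfl).symm
  have hφ0 : φ = 0 := (adj.homEquiv _ _).injective (hα0.trans (by rw [Adjunction.homEquiv_unit, Functor.map_zero, comp_zero]))
  refine Subtype.ext (funext fun y => LinearMap.ext fun v => ?_)
  obtain ⟨U, hU, m, rfl⟩ := E.presheaf.exists_germ_eq v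
  have hy : y.1 ∈ U ⊓ P := ⟨hU, y.2⟩
  rw [← E.presheaf.germ_res_apply (homOfLE (inf_le_left : U ⊓ P ≤ U)) y.1 hy]
  show s.1 y (E.presheaf.germ (U ⊓ P) y.1 hy (rM E inf_le_left m)) = 0
  have h0 : toLin (rM (RefHull.homSh E M) inf_le_right s) (rM E inf_le_left m) = 0 := by
    refine (rM_bijective (ι_image_preimage_le P U) ?_).1 ?_
    · rw [Scheme.Hom.image_preimage_eq_opensRange_inf, Scheme.Opens.opensRange_ι, inf_comm]
    · rw [← hφ, hφ0, map_zero]; rfl
  exact ((germ_toLin _ _ ⟨y.1, hy⟩).symm.trans (congrArg (M.presheaf.germ (U ⊓ P) y.1 hy) h0)).trans (map_zero _)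

theorem pushExt_smul (P : T₀.Opens) (W : X.Opens) (r : Γ(X, W))
    (n : Γ(M, P.ι ''ᵁ P.ι ⁻¹ᵁ (a₀ ⁻¹ᵁ W))) :
    (show Γ(M, P.ι ''ᵁ P.ι ⁻¹ᵁ (a₀ ⁻¹ᵁ W)) from
        r • (show Γ((Scheme.Modules.pushforward a₀).obj (extRes M P), W) from n)) =
      rO T₀ (P.ι.image_preimage_le _) (a₀.app W r) • n :=
  extRes_smul M P (a₀ ⁻¹ᵁ W) (a₀.app W r) n

/-- Derivations as derivations of `O_X` into a direct image. -/
theorem exists_pushDer {P : T₀.Opens} (δ : Ders f a₀ M P) :
    ∃ D : OmegaSh.Der f ((Scheme.Modules.pushforward a₀).obj (extRes M P)),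
      ∀ (W : X.Opens) (x : Γ(X, W)),
        D.app W x = rM M (ι_image_preimage_le P (a₀ ⁻¹ᵁ W)) (δ.1 W x) := by
  have hmul : ∀ (W : X.Opens) (x y : Γ(X, W)), rM M (ι_image_preimage_le P (a₀ ⁻¹ᵁ W)) (δ.1 W (x * y)) =
      (show Γ(M, P.ι ''ᵁ P.ι ⁻¹ᵁ (a₀ ⁻¹ᵁ W)) from x •
        (show Γ((Scheme.Modules.pushforward a₀).obj (extRes M P), W) from rM M (ι_image_preimage_le P _) (δ.1 W y))) +
      (show Γ(M, P.ι ''ᵁ P.ι ⁻¹ᵁ (a₀ ⁻¹ᵁ W)) from y •
        (show Γ((Scheme.Modules.pushforward a₀).obj (extRes M P), W) from rM M (ι_image_preimage_le P _) (δ.1 W x))) :=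
    fun W x y => by rw [δ.2.mul, map_add, rM_smul, rM_smul, rO_rO, rO_rO, pushExt_smul, pushExt_smul]; rfl
  exact ⟨{
    d := fun {W} => (rM M (ι_image_preimage_le P (a₀ ⁻¹ᵁ W.unop))).comp (δ.1 W.unop)
    d_mul := fun {W} x y => hmul W.unop x y
    d_map := fun {W W'} g x => by
      show rM M _ (δ.1 W'.unop (rO X g.unop.le x)) =
        rM M (P.ι.image_mono (P.ι.preimage_mono (a₀.preimage_mono g.unop.le)))
          (rM M (ι_image_preimage_le P _) (δ.1 W.unop x))
      rw [δ.2.res, rM_rM, rM_rM]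
    d_app := fun {Y} c => by
      show rM M _ (δ.1 (f ⁻¹ᵁ Y.unop) (f.app Y.unop c)) = 0
      rw [δ.2.base, map_zero] }, fun W x => rfl⟩

/-- Universality: derivations come from morphisms out of `a₀^*Ω`. -/
theorem exists_homExt (hd : OmegaSh.IsUniversal d) {P : T₀.Opens} (δ : Ders f a₀ M P) :
    ∃ φ : (Scheme.Modules.pullback a₀).obj Ω ⟶ extRes M P, ∀ (W : X.Opens) (x : Γ(X, W)),
      φ.app (a₀ ⁻¹ᵁ W) (OmegaSh.pullSect a₀ Ω W (d.app W x)) =
        rM M (ι_image_preimage_le P (a₀ ⁻¹ᵁ W)) (δ.1 W x) := by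
  obtain ⟨D, hD⟩ := exists_pushDer a₀ M δ
  obtain ⟨α, hα, -⟩ := hd _ D
  let adj := Scheme.Modules.pullbackPushforwardAdjunction a₀
  refine ⟨(adj.homEquiv _ _).symm α, fun W x => ?_⟩
  rw [← hD, ← show α.app W (d.app W x) = D.app W x from
    PresheafOfModules.Derivation.congr_d hα (X := op W) x]
  conv_rhs => rw [← (adj.homEquiv _ _).apply_symm_apply α, Adjunction.homEquiv_unit]
  rfl

/-- The unit `M → ι_*ι^*M`. -/
noncomputable abbrev resUnit (P : T₀.Opens) : M ⟶ extRes M P :=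
  (Scheme.Modules.restrictAdjunction P.ι).unit.app M

theorem resUnit_app (P U : T₀.Opens) (m : Γ(M, U)) :
    (resUnit M P).app U m = rM M (P.ι.image_preimage_le U) m := by
  rw [Scheme.Modules.restrictAdjunction_unit_app_app]
  rfl

theorem bijective_resUnit_app (P U : T₀.Opens) (hU : U ≤ P) :
    Function.Bijective ((resUnit M P).app U) := by
  rw [show ((resUnit M P).app U : _ → _) = rM M (P.ι.image_preimage_le U) from funext (resUnit_app M P U)]
  exact rM_bijective _ (image_preimage_ι hU).symm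

theorem bijective_stalkMap_resUnit (P : T₀.Opens) (y : T₀) (hyP : y ∈ P) :
    Function.Bijective (RefHull.stalkMapₗ (resUnit M P) y) := by
  refine ⟨(injective_iff_map_eq_zero _).2 fun v hv => ?_, fun w => ?_⟩
  · obtain ⟨U, hU, m, rfl⟩ := M.presheaf.exists_germ_eq v
    rw [RefHull.stalkMapₗ_germ, ← map_zero ((extRes M P).presheaf.germ U y hU).hom] at hv
    obtain ⟨W, hW, i₁, i₂, e⟩ := (extRes M P).presheaf.germ_eq y hU hU _ _ hv
    have hW' : y ∈ W ⊓ P := ⟨hW, hyP⟩
    have hle : W ⊓ P ≤ U := (inf_le_left : W ⊓ P ≤ W).trans i₁.le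
    have e' : rM (extRes M P) (inf_le_left : W ⊓ P ≤ W) (rM (extRes M P) i₁.le ((resUnit M P).app U m)) =
        rM (extRes M P) (inf_le_left : W ⊓ P ≤ W) (rM (extRes M P) i₂.le 0) :=
      congrArg (rM (extRes M P) (inf_le_left : W ⊓ P ≤ W)) e
    rw [map_zero, map_zero, rM_rM] at e'
    have h0 : rM M hle m = 0 := (bijective_resUnit_app M P _ inf_le_right).1 (by
      rw [map_zero]
      exact (H11Tilde.app_map_apply (resUnit M P) hle m).trans e')
    rw [← M.presheaf.germ_res_apply (homOfLE hle) y hW']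
    exact (congrArg (M.presheaf.germ (W ⊓ P) y hW') h0).trans (map_zero _)
  · obtain ⟨U, hU, n, rfl⟩ := (extRes M P).presheaf.exists_germ_eq w
    obtain ⟨m, hm⟩ := (bijective_resUnit_app M P _ (inf_le_right : U ⊓ P ≤ P)).2
      (rM (extRes M P) inf_le_left n)
    refine ⟨M.presheaf.germ (U ⊓ P) y ⟨hU, hyP⟩ m, ?_⟩
    rw [RefHull.stalkMapₗ_germ, hm]
    exact (extRes M P).presheaf.germ_res_apply _ _ _ _

/-- A morphism to `ι_*ι^*M` gives a section of the sheaf Hom. -/
theorem exists_secOfHom {E : T₀.Modules} {P : T₀.Opens} (φ : E ⟶ extRes M P) :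
    ∃ s : Γ(RefHull.homSh E M, P), ∀ (Q : T₀.Opens) (hQ : Q ≤ P) (m : Γ(E, Q)) (n : Γ(M, Q)),
      (resUnit M P).app Q n = φ.app Q m → toLin (rM (RefHull.homSh E M) hQ s) m = n := by
  let θ : ∀ y : P, RefHull.StalkHom E M y.1 := fun y =>
    ((LinearEquiv.ofBijective _ (bijective_stalkMap_resUnit M P y.1 y.2)).symm.toLinearMap).comp
      (RefHull.stalkMapₗ φ y.1)
  have hθ : ∀ (U : T₀.Opens) (hUP : U ≤ P) (m : Γ(E, U)) (n : Γ(M, U)), (resUnit M P).app U n = φ.app U m →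
      ∀ y : U, θ ⟨y.1, hUP y.2⟩ (E.presheaf.germ U y.1 y.2 m) = M.presheaf.germ U y.1 y.2 n := by
    intro U hUP m n hn y
    refine (LinearEquiv.symm_apply_eq _).2 ?_
    exact (RefHull.stalkMapₗ_germ φ y.1 y.2 m).trans
      ((congrArg _ hn.symm).trans (RefHull.stalkMapₗ_germ (resUnit M P) y.1 y.2 n).symm)
  have hloc : RefHull.IsLocSect E M θ := fun V i m y => by
    obtain ⟨n, hn⟩ := (bijective_resUnit_app M P V i.le).2 (φ.app V m)
    exact ⟨V, y.2, 𝟙 V, n, fun z => hθ V i.le m n hn z⟩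
  exact ⟨⟨θ, hloc⟩, fun Q hQ m n hn => sec_ext M fun y hy =>
    (germ_toLin _ _ ⟨y, hy⟩).trans (hθ Q hQ m n hn ⟨y, hy⟩)⟩

theorem homToDers_surjective (hd : OmegaSh.IsUniversal d) (P : T₀.Opens) :
    Function.Surjective (homToDers a₀ d M P) := by
  intro δ
  obtain ⟨φ, hφ⟩ := exists_homExt a₀ d M hd δ
  obtain ⟨s, hs⟩ := exists_secOfHom M φ
  refine ⟨s, Subtype.ext (funext fun W => AddMonoidHom.ext fun x => ?_)⟩
  rw [homToDers_apply]
  refine hs _ inf_le_right _ (δ.1 W x) ?_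
  rw [H11Tilde.app_map_apply φ, hφ, resUnit_app]
  exact (rM_rM (ι_image_preimage_le P _) (P.ι.image_mono (P.ι.preimage_mono inf_le_left)) _).symm

/-- If `H¹(T₀, 𝓗om(a₀^*Ω, M)) = 0`, cocycles of derivations are coboundaries. -/
theorem acyclic_of_subsingleton_HH (hd : OmegaSh.IsUniversal d)
    [DCoh.HasSheafHom ((Scheme.Modules.pullback a₀).obj Ω)]
    (hH1 : Subsingleton (Coh.HH T₀ ((DCoh.sheafHom ((Scheme.Modules.pullback a₀).obj Ω)).obj M) 1))
    {ι : Type u} (P : ι → T₀.Opens) (hP : iSup P = ⊤) : Acyclic f a₀ M P := by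
  intro v hv
  let E := (Scheme.Modules.pullback a₀).obj Ω
  let H := RefHull.homSh E M
  let e := SheafHom.homShIso E M
  haveI : Subsingleton (Coh.HH T₀ H 1) := subsingleton_HH_of_iso e 1 hH1
  have hH : Subsingleton (HnM H 1 ⊤) := (H10Coh.HHEquiv H 1).toEquiv.symm.subsingleton
  have hinj := homToDers_injective a₀ d M hd
  choose s hs using fun j k => homToDers_surjective a₀ d M hd (P j ⊓ P k) (v j k)
  obtain ⟨y, hy⟩ := H12Pic.PicCurve.CechTwo.exists_coboundary (sh H) hH P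
    (fun x => Opens.mem_iSup.1 (hP.ge (Opens.mem_top x))) s fun i j k Q hi hj hk => by
      show rM H (le_inf hi hj) (s i j) + rM H (le_inf hj hk) (s j k) = rM H (le_inf hi hk) (s i k)
      apply hinj
      rw [map_add, homToDers_res, homToDers_res, homToDers_res, hs, hs, hs]
      exact hv i j k Q hi hj hk
  refine ⟨fun j => homToDers a₀ d M (P j) (y j), fun j k => ?_⟩
  rw [← homToDers_res, ← homToDers_res, ← map_sub, ← hs]
  exact congrArg _ (hy j k)

end Groth.Agent.H06Lift
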