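import Groth.Prelude.Def_Omega2
import Groth.Prelude.Def_Omega3
import Groth.Agent.H29Omega.ConormalLocFree
import Mathlib

/-!
# Square-zero closed immersions: topology, sections of the conormal sheaf, local derivations
-/

set_option autoImplicit false
set_option linter.style.haveILetI false
universe u

open CategoryTheory CategoryTheory.Limits AlgebraicGeometry TopologicalSpace Opposite

namespace Groth.Agent.H06Lift

section Res

variable {X : Scheme.{u}} (M : X.Modules)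

/-- Restriction of sections of a module. -/
noncomputable abbrev rM {P Q : X.Opens} (h : Q ≤ P) : Γ(M, P) →+ Γ(M, Q) :=
  (M.presheaf.map (homOfLE h).op).hom

/-- Restriction of functions. -/
noncomputable abbrev rO (X : Scheme.{u}) {P Q : X.Opens} (h : Q ≤ P) : Γ(X, P) →+* Γ(X, Q) :=
  (X.presheaf.map (homOfLE h).op).hom

variable {M}

theorem rM_rM {A B C : X.Opens} (h : B ≤ A) (h' : C ≤ B) (x : Γ(M, A)) :
    rM M h' (rM M h x) = rM M (h'.trans h) x := by
  change ((M.presheaf.map (homOfLE h).op) ≫ M.presheaf.map (homOfLE h').op) x = _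
  rw [← Functor.map_comp]
  rfl

theorem rO_rO {A B C : X.Opens} (h : B ≤ A) (h' : C ≤ B) (x : Γ(X, A)) :
    rO X h' (rO X h x) = rO X (h'.trans h) x := by
  change ((X.presheaf.map (homOfLE h).op) ≫ X.presheaf.map (homOfLE h').op) x = _
  rw [← Functor.map_comp]
  rfl

theorem rM_self {A : X.Opens} (h : A ≤ A) (x : Γ(M, A)) : rM M h x = x := by
  change M.presheaf.map _ x = x
  rw [show (homOfLE h).op = 𝟙 (op A) from rfl, M.presheaf.map_id]
  rfl

theorem rO_self {A : X.Opens} (h : A ≤ A) (x : Γ(X, A)) : rO X h x = x := by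
  change X.presheaf.map _ x = x
  rw [show (homOfLE h).op = 𝟙 (op A) from rfl, X.presheaf.map_id]
  rfl

theorem rM_smul {A B : X.Opens} (h : B ≤ A) (r : Γ(X, A)) (x : Γ(M, A)) :
    rM M h (r • x) = rO X h r • rM M h x :=
  Scheme.Modules.map_smul M (homOfLE h) r x

/-- Sections agreeing on an open cover are equal. -/
theorem eq_of_cover {ι : Type*} (F : X.Modules) (U : ι → X.Opens) (V : X.Opens) (hle : ∀ i, U i ≤ V)
    (hcov : V ≤ iSup U) {s t : Γ(F, V)} (h : ∀ i, rM F (hle i) s = rM F (hle i) t) : s = t :=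
  TopCat.Sheaf.eq_of_locally_eq' (⟨F.presheaf, F.isSheaf⟩ : TopCat.Sheaf Ab.{u} X) U V
    (fun i => homOfLE (hle i)) hcov s t h

/-- Functions agreeing on an open cover are equal. -/
theorem eq_of_coverO {ι : Type*} (U : ι → X.Opens) (V : X.Opens) (hle : ∀ i, U i ≤ V)
    (hcov : V ≤ iSup U) {s t : Γ(X, V)} (h : ∀ i, rO X (hle i) s = rO X (hle i) t) : s = t :=
  X.sheaf.eq_of_locally_eq' U V (fun i => homOfLE (hle i)) hcov s t h

end Res

section Topology

variable {T T₀ : Scheme.{u}} (i : T₀ ⟶ T) [IsClosedImmersion i]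

/-- The defining ideal has square zero on affine opens. -/
def SqZero : Prop :=
  ∀ (U : T.affineOpens) (x y : Γ(T, U.1)),
      x ∈ RingHom.ker (i.app U.1).hom → y ∈ RingHom.ker (i.app U.1).hom → x * y = 0

variable {i}

theorem surjective_of_sqZero (hsq : SqZero i) : Function.Surjective i := by
  intro t
  have hcl : IsClosed (Set.range i) := i.isClosedEmbedding.isClosed_range
  suffices h : t ∈ (i.ker.support : Set T) by rwa [Scheme.Hom.support_ker, hcl.closure_eq] at h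
  obtain ⟨U, hU, htU, -⟩ := exists_isAffineOpen_mem_and_subset (X := T) (x := t) (U := ⊤) trivial
  have key : t ∈ T.zeroLocus (U := U) (i.ker.ideal ⟨U, hU⟩ : Set Γ(T, U)) ∩ (U : Set T) := by
    refine ⟨(Scheme.mem_zeroLocus_iff _ _ _).2 fun f hf hft => ?_, htU⟩
    rw [SetLike.mem_coe, Scheme.Hom.ker_apply] at hf
    have h0 := hsq ⟨U, hU⟩ f f hf hf
    rw [Scheme.mem_basicOpen _ _ _ htU] at hft
    have h1 := hft.mul hft
    rw [← map_mul, h0, map_zero] at h1
    exact not_isUnit_zero h1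
  rw [← Scheme.IdealSheafData.coe_support_inter] at key
  exact key.1

theorem eq_of_preimage_le (hsq : SqZero i) {V W : T.Opens} (h : i ⁻¹ᵁ V ≤ i ⁻¹ᵁ W) : V ≤ W := by
  intro t ht
  obtain ⟨t₀, rfl⟩ := surjective_of_sqZero hsq t
  exact h ht

/-- The homeomorphism underlying a first-order thickening. -/
noncomputable def homeo (hsq : SqZero i) : T₀ ≃ₜ T :=
  (Equiv.ofBijective i ⟨i.isClosedEmbedding.injective, surjective_of_sqZero hsq⟩).toHomeomorphOfContinuousOpen
    i.continuous fun V hV => by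
      have h := (i.isClosedEmbedding.isClosedMap _ hV.isClosed_compl).isOpen_compl
      rwa [Set.image_compl_eq ⟨i.isClosedEmbedding.injective, surjective_of_sqZero hsq⟩, compl_compl] at h

theorem homeo_symm_apply (hsq : SqZero i) (t₀ : T₀) : (homeo hsq).symm (i t₀) = t₀ :=
  (homeo hsq).symm_apply_apply t₀

end Topology

/-- Additive identifications of sections of a module on `T₀` with the kernels of `i♯`. -/
structure Kappa {T T₀ : Scheme.{u}} (i : T₀ ⟶ T) (M : T₀.Modules) where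
  map : ∀ V : T.Opens, Γ(M, i ⁻¹ᵁ V) →+ Γ(T, V)
  injective : ∀ V, Function.Injective (map V)
  mem_ker : ∀ V m, i.app V (map V m) = 0
  exists_eq : ∀ (V : T.Opens) (x : Γ(T, V)), i.app V x = 0 → ∃ m, map V m = x
  smul : ∀ (V : T.Opens) (x : Γ(T, V)) m, map V (i.app V x • m) = x * map V m
  res : ∀ (V V' : T.Opens) (h : V' ≤ V) (m : Γ(M, i ⁻¹ᵁ V)),
    map V' (rM M (i.preimage_mono h) m) = rO T h (map V m)

namespace Kappa

variable {T T₀ : Scheme.{u}} {i : T₀ ⟶ T} {M : T₀.Modules} (κ : Kappa i M)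

include κ in
theorem mul_eq_zero {V : T.Opens} {x y : Γ(T, V)} (hx : i.app V x = 0) (hy : i.app V y = 0) :
    x * y = 0 := by
  obtain ⟨m, rfl⟩ := κ.exists_eq V y hy
  rw [← κ.smul, hx, zero_smul, map_zero]

/-- The identification along an equality of opens. -/
noncomputable def at' (V : T.Opens) (P : T₀.Opens) (h : i ⁻¹ᵁ V = P) : Γ(M, P) →+ Γ(T, V) :=
  (κ.map V).comp (rM M h.le)

theorem at'_injective (V : T.Opens) (P : T₀.Opens) (h : i ⁻¹ᵁ V = P) :
    Function.Injective (κ.at' V P h) := by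
  subst h
  exact fun a b e => by
    have := κ.injective _ e
    rwa [rM_self, rM_self] at this

theorem at'_mem_ker (V : T.Opens) (P : T₀.Opens) (h : i ⁻¹ᵁ V = P) (m : Γ(M, P)) :
    i.app V (κ.at' V P h m) = 0 := κ.mem_ker _ _

theorem exists_at'_eq (V : T.Opens) (P : T₀.Opens) (h : i ⁻¹ᵁ V = P) (x : Γ(T, V))
    (hx : i.app V x = 0) : ∃ m, κ.at' V P h m = x := by
  subst h
  obtain ⟨m, rfl⟩ := κ.exists_eq V x hx
  exact ⟨m, congrArg (κ.map V) (rM_self _ m)⟩

theorem at'_smul (V : T.Opens) (P : T₀.Opens) (h : i ⁻¹ᵁ V = P) (x : Γ(T, V)) (r : Γ(T₀, P))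
    (hr : i.app V x = rO T₀ h.le r) (m : Γ(M, P)) :
    κ.at' V P h (r • m) = x * κ.at' V P h m := by
  show κ.map V (rM M h.le (r • m)) = _
  rw [rM_smul, ← hr, κ.smul]
  rfl

theorem at'_res {V V' : T.Opens} {P P' : T₀.Opens} (h : i ⁻¹ᵁ V = P) (h' : i ⁻¹ᵁ V' = P')
    (e : V' ≤ V) (e' : P' ≤ P) (m : Γ(M, P)) :
    κ.at' V' P' h' (rM M e' m) = rO T e (κ.at' V P h m) := by
  show κ.map V' (rM M h'.le (rM M e' m)) = rO T e (κ.map V (rM M h.le m))
  rw [← κ.res V V' e, rM_rM, rM_rM]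

end Kappa

/-- The conormal sheaf of a first-order thickening as the kernel of `i♯`. -/
theorem exists_kappa_conormal {T T₀ : Scheme.{u}} (i : T₀ ⟶ T) [IsClosedImmersion i] (hsq : SqZero i) :
    Nonempty (Kappa i (Omega.conormal i)) := by
  let I := i.ker
  let N := ClSub.idealMod I
  have hcov : ∀ V : T.Opens, V ≤ iSup fun U : {U : T.Opens // IsAffineOpen U ∧ U ≤ V} => U.1 := by
    intro V t ht
    obtain ⟨U, hU, htU, hUV⟩ := exists_isAffineOpen_mem_and_subset (X := T) (x := t) (U := V) ht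
    exact Opens.mem_iSup.2 ⟨⟨U, hU, hUV⟩, htU⟩
  have hkeraff : ∀ U : T.affineOpens, RingHom.ker (I.subschemeι.app U.1).hom = RingHom.ker (i.app U.1).hom :=
    fun U => (I.ker_subschemeι_app U).trans (Scheme.Hom.ker_apply i U)
  have hloc : ∀ {Z : Scheme.{u}} (g : Z ⟶ T) (V : T.Opens) (x : Γ(T, V)),
      g.app V x = 0 ↔ ∀ U : {U : T.Opens // IsAffineOpen U ∧ U ≤ V}, g.app U.1 (rO T U.2.2 x) = 0 := by
    intro Z g V x
    have hn : ∀ U : {U : T.Opens // IsAffineOpen U ∧ U ≤ V},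
        g.app U.1 (rO T U.2.2 x) = rO Z (g.preimage_mono U.2.2) (g.app V x) := fun U =>
      congr($(g.naturality (homOfLE U.2.2).op) x)
    refine ⟨fun h U => by rw [hn, h, map_zero], fun h => ?_⟩
    refine eq_of_coverO (fun U : {U : T.Opens // IsAffineOpen U ∧ U ≤ V} => g ⁻¹ᵁ U.1) (g ⁻¹ᵁ V)
      (fun U => g.preimage_mono U.2.2) (fun t ht => ?_) fun U => ?_
    · obtain ⟨U, hU⟩ := Opens.mem_iSup.1 (hcov V (show g t ∈ V from ht))
      exact Opens.mem_iSup.2 ⟨U, hU⟩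
    · rw [map_zero, ← hn, h]
  have hker : ∀ (V : T.Opens) (x : Γ(T, V)), i.app V x = 0 ↔ ∃ m : Γ(N, V), OmegaSh.idealSect I V m = x := by
    intro V x
    have e2 : i.app V x = 0 ↔ I.subschemeι.app V x = 0 := by
      rw [hloc i V x, hloc I.subschemeι V x]
      exact forall_congr' fun U => (SetLike.ext_iff.1 (hkeraff ⟨U.1, U.2.1⟩) (rO T U.2.2 x)).symm
    rw [e2]
    refine ⟨fun h => H29Blow.exists_kernelι_app_eq (ClSub.toSubscheme I) V x h, fun ⟨m, hm⟩ => ?_⟩
    rw [← hm]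
    show (ClSub.idealModι I ≫ ClSub.toSubscheme I).app V m = 0
    rw [show ClSub.idealModι I ≫ ClSub.toSubscheme I = 0 from kernel.condition _]; rfl
  let η := fun V : T.Opens => (OmegaSh.pullSect i N V).hom
  have hres : ∀ (V V' : T.Opens) (h : V' ≤ V) (m : Γ(N, V)),
      η V' (rM N h m) = rM (Omega.conormal i) (i.preimage_mono h) (η V m) :=
    fun V V' h m => OmegaSh.pullSect_map i N h m
  have haff : ∀ V : T.Opens, IsAffineOpen V → Function.Bijective (η V) := by
    intro V hV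
    obtain ⟨hsurj, hk⟩ := H17.PullSect.isQuotOn_of_isAffineOpen i N
      (H17.OmegaLocal.isQuasicoherent_idealMod i.ker) hV
    refine ⟨(injective_iff_map_eq_zero _).2 fun m hm => H29Blow.idealSect_injective I V ?_, hsurj⟩
    rw [map_zero]
    refine Submodule.smul_induction_on (p := fun n => OmegaSh.idealSect I V n = 0) (hk m hm)
      (fun r hr n _ => ?_) fun a b ha hb => by rw [map_add, ha, hb, add_zero]
    rw [H29Blow.idealSect_smul]
    exact hsq ⟨V, hV⟩ r _ hr (RingHom.mem_ker.2 ((hker V _).2 ⟨n, rfl⟩))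
  have hinj : ∀ V, Function.Injective (η V) := fun V a b hab =>
    eq_of_cover N _ V (fun U => U.2.2) (hcov V) fun U => (haff U.1 U.2.1).1 (by rw [hres, hres, hab])
  have hsurj : ∀ V, Function.Surjective (η V) := by
    intro V n
    choose m hm using fun U : {U : T.Opens // IsAffineOpen U ∧ U ≤ V} =>
      (haff U.1 U.2.1).2 (rM (Omega.conormal i) (i.preimage_mono U.2.2) n)
    obtain ⟨s, hs, -⟩ := TopCat.Sheaf.existsUnique_gluing' (⟨N.presheaf, N.isSheaf⟩ : TopCat.Sheaf Ab.{u} T)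
      (fun U : {U : T.Opens // IsAffineOpen U ∧ U ≤ V} => U.1) V (fun U => homOfLE U.2.2) (hcov V) m
      (fun U U' => hinj _ (by
        refine (hres _ _ inf_le_left (m U)).trans (Eq.trans ?_ (hres _ _ inf_le_right (m U')).symm)
        rw [hm, hm, rM_rM, rM_rM]))
    refine ⟨s, eq_of_cover (Omega.conormal i) (fun U : {U : T.Opens // IsAffineOpen U ∧ U ≤ V} => i ⁻¹ᵁ U.1)
      (i ⁻¹ᵁ V) (fun U => i.preimage_mono U.2.2) (fun t ht => ?_) fun U => ?_⟩
    · obtain ⟨U, hU⟩ := Opens.mem_iSup.1 (hcov V (show i t ∈ V from ht))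
      exact Opens.mem_iSup.2 ⟨U, hU⟩
    · exact ((hres V U.1 U.2.2 s).symm.trans (congrArg (η U.1) (hs U))).trans (hm U)
  let e := fun V => AddEquiv.ofBijective (η V) ⟨hinj V, hsurj V⟩
  exact ⟨{
    map := fun V => (OmegaSh.idealSect I V).comp (e V).symm.toAddMonoidHom
    injective := fun V => (H29Blow.idealSect_injective I V).comp (e V).symm.injective
    mem_ker := fun V m => (hker V _).2 ⟨_, rfl⟩
    exists_eq := fun V x hx => by
      obtain ⟨m, hm⟩ := (hker V x).1 hx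
      exact ⟨e V m, (congrArg (OmegaSh.idealSect I V) ((e V).symm_apply_apply m)).trans hm⟩
    smul := fun V x m => by
      show OmegaSh.idealSect I V ((e V).symm (i.app V x • m)) = x * OmegaSh.idealSect I V ((e V).symm m)
      rw [← H29Blow.idealSect_smul]
      congr 1
      rw [AddEquiv.symm_apply_eq]
      refine Eq.trans ?_ (OmegaSh.pullSect_smul i N V x _).symm
      exact congrArg _ ((e V).apply_symm_apply m).symm
    res := fun V V' h m => by
      show OmegaSh.idealSect I V' ((e V').symm _) = rO T h (OmegaSh.idealSect I V ((e V).symm m))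
      refine Eq.trans ?_ (H29Blow.idealSect_res I h _)
      congr 1
      rw [AddEquiv.symm_apply_eq]
      refine Eq.trans ?_ (hres V V' h _).symm
      exact congrArg _ ((e V).apply_symm_apply m).symm }⟩

section Der

variable {S X T₀ : Scheme.{u}}

/-- `S`-derivations of `O_X` into the sections of `M` over an open of `T₀`. -/
structure IsDer (f : X ⟶ S) (a₀ : T₀ ⟶ X) (M : T₀.Modules) (P : T₀.Opens)
    (δ : ∀ W : X.Opens, Γ(X, W) →+ Γ(M, a₀ ⁻¹ᵁ W ⊓ P)) : Prop where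
  res : ∀ (W W' : X.Opens) (h : W' ≤ W) (x : Γ(X, W)),
    δ W' (rO X h x) = rM M (inf_le_inf (a₀.preimage_mono h) le_rfl) (δ W x)
  mul : ∀ (W : X.Opens) (x y : Γ(X, W)),
    δ W (x * y) = rO T₀ (inf_le_left : a₀ ⁻¹ᵁ W ⊓ P ≤ a₀ ⁻¹ᵁ W) (a₀.app W x) • δ W y +
      rO T₀ (inf_le_left : a₀ ⁻¹ᵁ W ⊓ P ≤ a₀ ⁻¹ᵁ W) (a₀.app W y) • δ W x
  base : ∀ (Y : S.Opens) (c : Γ(S, Y)), δ (f ⁻¹ᵁ Y) (f.app Y c) = 0

variable (f : X ⟶ S) (a₀ : T₀ ⟶ X) (M : T₀.Modules)

/-- The group of derivations over an open. -/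
noncomputable def Ders (P : T₀.Opens) : AddSubgroup (∀ W : X.Opens, Γ(X, W) →+ Γ(M, a₀ ⁻¹ᵁ W ⊓ P)) where
  carrier := {δ | IsDer f a₀ M P δ}
  zero_mem' := ⟨fun _ _ _ _ => (map_zero _).symm, fun _ _ _ => by simp, fun _ _ => rfl⟩
  add_mem' {a b} ha hb := ⟨fun W W' h x => by simp [ha.res W W' h x, hb.res W W' h x, map_add],
    fun W x y => by simp [ha.mul W x y, hb.mul W x y, smul_add]; abel,
    fun Y c => by simp [ha.base Y c, hb.base Y c]⟩
  neg_mem' {a} ha := ⟨fun W W' h x => by simp [ha.res W W' h x, map_neg],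
    fun W x y => by simp [ha.mul W x y, smul_neg]; abel,
    fun Y c => by simp [ha.base Y c]⟩

variable {f a₀ M}

/-- Restriction of the underlying family. -/
noncomputable def resFun {P Q : T₀.Opens} (h : Q ≤ P) (δ : ∀ W : X.Opens, Γ(X, W) →+ Γ(M, a₀ ⁻¹ᵁ W ⊓ P))
    (W : X.Opens) : Γ(X, W) →+ Γ(M, a₀ ⁻¹ᵁ W ⊓ Q) :=
  (rM M (inf_le_inf le_rfl h)).comp (δ W)

theorem isDer_resFun {P Q : T₀.Opens} (h : Q ≤ P) {δ : ∀ W : X.Opens, Γ(X, W) →+ Γ(M, a₀ ⁻¹ᵁ W ⊓ P)}
    (hδ : IsDer f a₀ M P δ) : IsDer f a₀ M Q (resFun h δ) :=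
  ⟨fun W W' e x => by
    show rM M _ (δ W' (rO X e x)) = rM M _ (rM M _ (δ W x))
    rw [hδ.res, rM_rM, rM_rM],
  fun W x y => by
    show rM M _ (δ W (x * y)) = _ • rM M _ (δ W y) + _ • rM M _ (δ W x)
    rw [hδ.mul, map_add, rM_smul, rM_smul, rO_rO, rO_rO],
  fun Y c => by
    show rM M _ (δ _ (f.app Y c)) = 0
    rw [hδ.base, map_zero]⟩

/-- Restriction of derivations. -/
noncomputable def dRes {P Q : T₀.Opens} (h : Q ≤ P) : Ders f a₀ M P →+ Ders f a₀ M Q where
  toFun δ := ⟨resFun h δ.1, isDer_resFun h δ.2⟩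
  map_zero' := Subtype.ext (funext fun W => AddMonoidHom.ext fun x =>
    map_zero (rM M (inf_le_inf (le_refl (a₀ ⁻¹ᵁ W)) h)))
  map_add' δ ε := Subtype.ext (funext fun W => AddMonoidHom.ext fun x =>
    map_add (rM M (inf_le_inf (le_refl (a₀ ⁻¹ᵁ W)) h)) (δ.1 W x) (ε.1 W x))

theorem dRes_apply {P Q : T₀.Opens} (h : Q ≤ P) (δ : Ders f a₀ M P) (W : X.Opens) (x : Γ(X, W)) :
    (dRes h δ).1 W x = rM M (inf_le_inf le_rfl h) (δ.1 W x) := rfl

theorem dRes_dRes {P Q R : T₀.Opens} (h : Q ≤ P) (h' : R ≤ Q) (δ : Ders f a₀ M P) :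
    dRes h' (dRes h δ) = dRes (h'.trans h) δ :=
  Subtype.ext (funext fun W => AddMonoidHom.ext fun x => by
    rw [dRes_apply, dRes_apply, dRes_apply, rM_rM])

/-- A family of derivations on the overlaps of a family of opens is a cocycle. -/
def IsDCocycle {ι : Type*} (P : ι → T₀.Opens) (v : ∀ j k, Ders f a₀ M (P j ⊓ P k)) : Prop :=
  ∀ (i j k : ι) (Q : T₀.Opens) (hi : Q ≤ P i) (hj : Q ≤ P j) (hk : Q ≤ P k),
    dRes (le_inf hi hj) (v i j) + dRes (le_inf hj hk) (v j k) = dRes (le_inf hi hk) (v i k)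

variable (f a₀ M) in
/-- Every cocycle is a coboundary. -/
def Acyclic {ι : Type*} (P : ι → T₀.Opens) : Prop :=
  ∀ v : ∀ j k, Ders f a₀ M (P j ⊓ P k), IsDCocycle P v → ∃ y : ∀ j, Ders f a₀ M (P j),
    ∀ j k, dRes inf_le_right (y k) - dRes inf_le_left (y j) = v j k

end Der

end Groth.Agent.H06Lift
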