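import Groth.Agent.H06Lift.Basic
import Groth.Agent.H29Omega.DerAffine

/-!
# Derivations over an open mapping into an affine chart
-/

set_option autoImplicit false
set_option linter.style.haveILetI false
set_option backward.isDefEq.respectTransparency false
universe u

open CategoryTheory CategoryTheory.Limits AlgebraicGeometry TopologicalSpace Opposite

namespace Groth.Agent.H06Lift

variable {S X T₀ : Scheme.{u}} {f : X ⟶ S} {a₀ : T₀ ⟶ X} {M : T₀.Modules}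

theorem app_rO' {Y Z : Scheme.{u}} (g : Z ⟶ Y) {U U' : Y.Opens} (i : U' ⟶ U) (x : Γ(Y, U)) :
    g.app U' (Y.presheaf.map i.op x) = Z.presheaf.map (homOfLE (g.preimage_mono i.le)).op (g.app U x) :=
  congr($(g.naturality i.op) x)

theorem rO_rO' {Y : Scheme.{u}} {A B C : Y.Opens} (i : B ⟶ A) (j : C ⟶ B) (x : Γ(Y, A)) :
    Y.presheaf.map j.op (Y.presheaf.map i.op x) = Y.presheaf.map (homOfLE (j.le.trans i.le)).op x := by
  rw [← ConcreteCategory.comp_apply, ← Functor.map_comp]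
  rfl

/-- A derivation evaluated on a chart. -/
noncomputable def evalChart {W : X.Opens} {Q : T₀.Opens} (hQW : Q ≤ a₀ ⁻¹ᵁ W) (δ : Ders f a₀ M Q) :
    Γ(X, W) →+ Γ(M, Q) :=
  (rM M (le_inf hQW le_rfl)).comp (δ.1 W)

theorem evalChart_dRes {W : X.Opens} {Q Q' : T₀.Opens} (hQW : Q ≤ a₀ ⁻¹ᵁ W) (h : Q' ≤ Q)
    (δ : Ders f a₀ M Q) (x : Γ(X, W)) :
    evalChart (h.trans hQW) (dRes h δ) x = rM M h (evalChart hQW δ x) := by
  show rM M _ (rM M _ (δ.1 W x)) = rM M h (rM M _ (δ.1 W x))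
  rw [rM_rM, rM_rM]

theorem evalChart_mul {W : X.Opens} {Q : T₀.Opens} (hQW : Q ≤ a₀ ⁻¹ᵁ W) (δ : Ders f a₀ M Q)
    (x y : Γ(X, W)) :
    evalChart hQW δ (x * y) = a₀.appLE W Q hQW x • evalChart hQW δ y + a₀.appLE W Q hQW y • evalChart hQW δ x := by
  show rM M _ (δ.1 W (x * y)) = _
  rw [δ.2.mul, map_add, rM_smul, rM_smul, rO_rO, rO_rO]
  rfl

theorem evalChart_base {W : X.Opens} {Q : T₀.Opens} (hQW : Q ≤ a₀ ⁻¹ᵁ W) (δ : Ders f a₀ M Q)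
    {U : S.Opens} (e : W ≤ f ⁻¹ᵁ U) (c : Γ(S, U)) : evalChart hQW δ (f.appLE U W e c) = 0 := by
  show rM M _ (δ.1 W (rO X e (f.app U c))) = 0
  rw [δ.2.res, δ.2.base, map_zero, map_zero]

theorem map_one_eq_zero {Q : T₀.Opens} (δ : Ders f a₀ M Q) (W : X.Opens) : δ.1 W 1 = 0 := by
  have h := δ.2.mul W 1 1
  rw [mul_one, map_one (a₀.app W).hom, RingHom.map_one, one_smul] at h
  exact left_eq_add.1 h

/-- A derivation over `Q ⊆ a₀⁻¹W` is determined by its values on the affine chart `W`. -/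
theorem evalChart_injective {W : X.Opens} (hW : IsAffineOpen W) {Q : T₀.Opens} (hQW : Q ≤ a₀ ⁻¹ᵁ W) :
    Function.Injective (fun δ : Ders f a₀ M Q => evalChart hQW δ) := by
  intro δ ε h
  suffices H : ∀ (W' : X.Opens) (x : Γ(X, W')), (δ - ε).1 W' x = 0 by
    refine sub_eq_zero.1 (Subtype.ext (funext fun W' => AddMonoidHom.ext fun x => ?_))
    exact H W' x
  have hη : ∀ y : Γ(X, W), rM M (le_inf hQW le_rfl) ((δ - ε).1 W y) = 0 := fun y => by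
    rw [AddSubgroup.coe_sub, Pi.sub_apply, AddMonoidHom.sub_apply, map_sub]
    exact sub_eq_zero.2 (DFunLike.congr_fun h y)
  generalize δ - ε = η at hη ⊢
  intro W' x
  refine eq_of_cover M (fun p : {r : Γ(X, W) // X.basicOpen r ≤ W'} => a₀ ⁻¹ᵁ X.basicOpen p.1 ⊓ Q) _
    (fun p => inf_le_inf (a₀.preimage_mono p.2) le_rfl) ?_ fun p => ?_
  · rintro t ⟨htW', htQ⟩
    obtain ⟨r, hr, hrt⟩ := hW.exists_basicOpen_le (⟨a₀ t, htW'⟩ : W') (hQW htQ)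
    exact Opens.mem_iSup.2 ⟨⟨r, hr⟩, hrt, htQ⟩
  · obtain ⟨r, hr⟩ := p
    rw [map_zero, ← η.2.res W' (X.basicOpen r) hr]
    haveI := hW.isLocalization_basicOpen r
    obtain ⟨⟨y, ⟨_, n, rfl⟩⟩, hy⟩ := IsLocalization.surj (Submonoid.powers r) (rO X hr x)
    have hzero : ∀ z : Γ(X, W), η.1 (X.basicOpen r) (rO X (X.basicOpen_le r) z) = 0 := fun z => by
      rw [η.2.res]
      have hle : a₀ ⁻¹ᵁ X.basicOpen r ⊓ Q ≤ Q := inf_le_right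
      have h1 := congrArg (rM M hle) (hη z)
      rw [rM_rM, map_zero] at h1
      exact h1
    have hmul := η.2.mul (X.basicOpen r) (rO X hr x) (rO X (X.basicOpen_le r) (r ^ n))
    have hy' : rO X hr x * rO X (X.basicOpen_le r) (r ^ n) = rO X (X.basicOpen_le r) y := hy
    rw [hy', hzero, hzero, smul_zero, zero_add] at hmul
    have hu : IsUnit (rO T₀ (inf_le_left : a₀ ⁻¹ᵁ X.basicOpen r ⊓ Q ≤ a₀ ⁻¹ᵁ X.basicOpen r)
        (a₀.app (X.basicOpen r) (rO X (X.basicOpen_le r) (r ^ n)))) :=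
      ((IsLocalization.map_units Γ(X, X.basicOpen r) (⟨r ^ n, n, rfl⟩ : Submonoid.powers r)).map _).map _
    exact hu.smul_eq_zero.1 hmul.symm

/-- Every derivation on the chart extends. -/
theorem exists_evalChart_eq {W : X.Opens} (hW : IsAffineOpen W) {U : S.Opens} (hU : IsAffineOpen U)
    (e : W ≤ f ⁻¹ᵁ U) {Q : T₀.Opens} (hQW : Q ≤ a₀ ⁻¹ᵁ W) (D₀ : Γ(X, W) →+ Γ(M, Q))
    (hmul : ∀ x y, D₀ (x * y) = a₀.appLE W Q hQW x • D₀ y + a₀.appLE W Q hQW y • D₀ x)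
    (hbase : ∀ c, D₀ (f.appLE U W e c) = 0) :
    ∃ δ : Ders f a₀ M Q, evalChart hQW δ = D₀ := by
  haveI : IsAffine (W : Scheme.{u}) := hW
  haveI : IsAffine (U : Scheme.{u}) := hU
  let k : (Q : Scheme.{u}) ⟶ W := a₀.resLE W Q hQW
  let F : (W : Scheme.{u}).Modules := (Scheme.Modules.pushforward k).obj (M.restrict Q.ι)
  have hsmul : ∀ (O : (W : Scheme.{u}).Opens) (r : Γ(X, W.ι ''ᵁ O)) (n : Γ(M, Q.ι ''ᵁ k ⁻¹ᵁ O)),
      (show Γ(M, Q.ι ''ᵁ k ⁻¹ᵁ O) from (show Γ((W : Scheme.{u}), O) from r) • (show Γ(F, O) from n)) =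
        a₀.appLE (W.ι ''ᵁ O) (Q.ι ''ᵁ k ⁻¹ᵁ O)
          ((Scheme.Hom.le_resLE_preimage_iff a₀ hQW O _).mp le_rfl) r • n := by
    intro O r n
    show ((Q.ι.appIso (k ⁻¹ᵁ O)).inv (k.app O r) : Γ(T₀, Q.ι ''ᵁ k ⁻¹ᵁ O)) • n = _
    rw [Scheme.Opens.ι_appIso, Scheme.Hom.app_eq_appLE, Scheme.Hom.resLE_appLE]
    rfl
  have htop : Q.ι ''ᵁ k ⁻¹ᵁ ⊤ ≤ Q := (Q.ι.image_mono le_top).trans Q.ι_image_top.le
  let δ₀ : Γ((W : Scheme.{u}), ⊤) →+ Γ(F, ⊤) :=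
    (rM M htop).comp (D₀.comp (rO X W.ι_image_top.ge).toAddMonoidHom)
  have h1 : ∀ x y : Γ((W : Scheme.{u}), ⊤), δ₀ (x * y) = x • δ₀ y + y • δ₀ x := by
    intro x y
    show rM M htop (D₀ (rO X W.ι_image_top.ge
        ((show Γ(X, W.ι ''ᵁ ⊤) from x) * (show Γ(X, W.ι ''ᵁ ⊤) from y)))) =
      (show Γ(M, Q.ι ''ᵁ k ⁻¹ᵁ ⊤) from x • (show Γ(F, ⊤) from rM M htop (D₀ (rO X W.ι_image_top.ge y)))) +
      (show Γ(M, Q.ι ''ᵁ k ⁻¹ᵁ ⊤) from y • (show Γ(F, ⊤) from rM M htop (D₀ (rO X W.ι_image_top.ge x))))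
    rw [map_mul, hmul, map_add, rM_smul, rM_smul, hsmul, hsmul]
    simp only [Scheme.Hom.appLE, CommRingCat.comp_apply, app_rO', rO_rO']
  have h2 : ∀ c : Γ((U : Scheme.{u}), ⊤), δ₀ ((f.resLE U W e).appTop c) = 0 := by
    intro c
    show rM M htop (D₀ (rO X W.ι_image_top.ge _)) = 0
    have h := hbase (rO S U.ι_image_top.ge c)
    rw [show rO X W.ι_image_top.ge ((f.resLE U W e).appTop c) = f.appLE U W e (rO S U.ι_image_top.ge c) from ?_,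
      h, map_zero]
    show rO X W.ι_image_top.ge ((f.resLE U W e).app ⊤ c) = _
    rw [Scheme.Hom.app_eq_appLE, Scheme.Hom.resLE_appLE]
    simp only [Scheme.Hom.appLE, CommRingCat.comp_apply, app_rO', rO_rO']
    exact rO_rO _ _ _
  obtain ⟨D, hD⟩ := H29Omega.DerAffine.exists_der F h1 (f.resLE U W e) h2
  have hle : ∀ W' : X.Opens, a₀ ⁻¹ᵁ W' ⊓ Q ≤ Q.ι ''ᵁ k ⁻¹ᵁ (W.ι ⁻¹ᵁ W') := by
    rintro W' t ⟨htW, htQ⟩
    refine ⟨⟨t, htQ⟩, ?_, rfl⟩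
    show (k ≫ W.ι) ⟨t, htQ⟩ ∈ W'
    rw [Scheme.Hom.resLE_comp_ι]
    exact htW
  let v : ∀ W' : X.Opens, Γ(X, W') →+ Γ(M, a₀ ⁻¹ᵁ W' ⊓ Q) := fun W' =>
    (rM M (hle W')).comp ((show Γ(X, W.ι ''ᵁ W.ι ⁻¹ᵁ W') →+ Γ(M, Q.ι ''ᵁ k ⁻¹ᵁ (W.ι ⁻¹ᵁ W')) from
      D.app (W.ι ⁻¹ᵁ W')).comp (rO X (W.ι.image_preimage_le W')).toAddMonoidHom)
  have hDres : ∀ (O O' : (W : Scheme.{u}).Opens) (h : O' ≤ O) (s : Γ(X, W.ι ''ᵁ O)),
      (show Γ(M, Q.ι ''ᵁ k ⁻¹ᵁ O') from D.app O' (show Γ((W : Scheme.{u}), O') from rO X (W.ι.image_mono h) s)) =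
        rM M (Q.ι.image_mono (k.preimage_mono h))
          (show Γ(M, Q.ι ''ᵁ k ⁻¹ᵁ O) from D.app O (show Γ((W : Scheme.{u}), O) from s)) :=
    fun O O' h s => D.d_map (homOfLE h).op s
  refine ⟨⟨v, fun W' W'' h x => ?_, fun W' x y => ?_, fun Y c => ?_⟩, AddMonoidHom.ext fun x => ?_⟩
  · show rM M (hle W'') (D.app (W.ι ⁻¹ᵁ W'') (rO X (W.ι.image_preimage_le W'') (rO X h x))) =
      rM M _ (rM M (hle W') (D.app (W.ι ⁻¹ᵁ W') (rO X (W.ι.image_preimage_le W') x)))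
    rw [rO_rO, ← rO_rO (W.ι.image_preimage_le W') (W.ι.image_mono (W.ι.preimage_mono h)) x]
    refine (congrArg (rM M (hle W'')) (hDres _ _ (W.ι.preimage_mono h) _)).trans ?_
    exact (rM_rM _ _ _).trans (rM_rM _ _ _).symm
  · show rM M (hle W') (show Γ(M, Q.ι ''ᵁ k ⁻¹ᵁ (W.ι ⁻¹ᵁ W')) from D.app (W.ι ⁻¹ᵁ W')
        (show Γ((W : Scheme.{u}), W.ι ⁻¹ᵁ W') from rO X (W.ι.image_preimage_le W') (x * y))) = _
    rw [map_mul]
    have := D.d_mul (X := op (W.ι ⁻¹ᵁ W')) (show Γ((W : Scheme.{u}), W.ι ⁻¹ᵁ W') from rO X (W.ι.image_preimage_le W') x)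
      (show Γ((W : Scheme.{u}), W.ι ⁻¹ᵁ W') from rO X (W.ι.image_preimage_le W') y)
    refine (congrArg (rM M (hle W')) this).trans ?_
    refine (map_add (rM M (hle W')) _ _).trans ?_
    refine congrArg₂ (· + ·) ?_ ?_ <;>
    · refine (congrArg (rM M (hle W')) (hsmul _ _ _)).trans ((rM_smul _ _ _).trans (congrArg (· • _) ?_))
      simp only [Scheme.Hom.appLE, CommRingCat.comp_apply, app_rO', rO_rO']
  · show rM M (hle _) (show Γ(M, Q.ι ''ᵁ k ⁻¹ᵁ (W.ι ⁻¹ᵁ (f ⁻¹ᵁ Y))) from D.app (W.ι ⁻¹ᵁ (f ⁻¹ᵁ Y))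
        (show Γ((W : Scheme.{u}), W.ι ⁻¹ᵁ (f ⁻¹ᵁ Y)) from rO X (W.ι.image_preimage_le _) (f.app Y c))) = 0
    have hO : W.ι ⁻¹ᵁ (f ⁻¹ᵁ Y) ≤ (f.resLE U W e) ⁻¹ᵁ (U.ι ⁻¹ᵁ Y) := by
      rw [← Scheme.Hom.comp_preimage, ← Scheme.Hom.comp_preimage, Scheme.Hom.resLE_comp_ι]
    have h0 : D.app _ ((f.resLE U W e).app (U.ι ⁻¹ᵁ Y) (rO S (U.ι.image_preimage_le Y) c)) = 0 :=
      D.d_app (X := op (U.ι ⁻¹ᵁ Y)) _
    have h1 := (D.d_map (homOfLE hO).op ((f.resLE U W e).app (U.ι ⁻¹ᵁ Y) (rO S (U.ι.image_preimage_le Y) c))).trans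
      ((congrArg (F.presheaf.map (homOfLE hO).op) h0).trans (map_zero _))
    refine (congrArg (rM M (hle _)) (Eq.trans ?_ h1)).trans (map_zero _)
    refine congrArg (D.app (W.ι ⁻¹ᵁ (f ⁻¹ᵁ Y))) ?_
    show _ = (f.resLE U W e).appLE (U.ι ⁻¹ᵁ Y) (W.ι ⁻¹ᵁ (f ⁻¹ᵁ Y)) hO (rO S (U.ι.image_preimage_le Y) c)
    rw [Scheme.Hom.resLE_appLE]
    simp only [Scheme.Hom.appLE, CommRingCat.comp_apply]
    refine Eq.trans ?_ (congrArg (X.presheaf.map _) (app_rO' f (homOfLE (U.ι.image_preimage_le Y)) c)).symm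
    exact (rO_rO (X := X) _ _ _).symm
  · show rM M (le_inf hQW le_rfl) (rM M (hle W) (D.app (W.ι ⁻¹ᵁ W) (rO X (W.ι.image_preimage_le W) x))) = D₀ x
    have hx : rO X (W.ι.image_preimage_le W) x =
        rO X (W.ι.image_mono (le_top : W.ι ⁻¹ᵁ W ≤ ⊤)) (rO X W.ι_image_top.le x) := (rO_rO _ _ _).symm
    rw [hx]
    refine (congrArg (fun z => rM M (le_inf hQW le_rfl) (rM M (hle W) z)) (hDres ⊤ _ le_top _)).trans ?_
    rw [show (D.app ⊤ : _ → _) = δ₀ from congrArg DFunLike.coe hD]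
    show rM M _ (rM M _ (rM M _ (rM M htop (D₀ (rO X W.ι_image_top.ge (rO X W.ι_image_top.le x)))))) = D₀ x
    rw [rO_rO, rO_self, rM_rM, rM_rM, rM_rM, rM_self]

end Groth.Agent.H06Lift
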