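import Groth.Agent.H06Lift.Fam
import Groth.Agent.H06Lift.Affine
import Groth.Agent.H29Fitt.PullbackQCoh

/-!
# Lifts along a thickening with affine source
-/

set_option autoImplicit false
set_option linter.style.haveILetI false
set_option backward.isDefEq.respectTransparency false
universe u

open CategoryTheory CategoryTheory.Limits AlgebraicGeometry TopologicalSpace Opposite

namespace Groth.Agent.H06Lift

variable {S X T T₀ : Scheme.{u}}

/-- Local lifts along a first order thickening with affine source give a global lift. -/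
theorem exists_lift_affine (f : X ⟶ S) [LocallyOfFinitePresentation f] {i : T₀ ⟶ T} [IsClosedImmersion i]
    [IsAffine T₀] (hsq : SqZero i) (a : T ⟶ S) (a₀ : T₀ ⟶ X) (hsqr : a₀ ≫ f = i ≫ a)
    {ι : Type u} (U : ι → T.Opens) (hU : iSup U = ⊤) (b : ∀ j, (↑(U j) : Scheme.{u}) ⟶ X)
    (hb₁ : ∀ j, b j ≫ f = (U j).ι ≫ a) (hb₂ : ∀ j, (i ∣_ U j) ≫ b j = (i ⁻¹ᵁ U j).ι ≫ a₀) :
    ∃ b' : T ⟶ X, b' ≫ f = a ∧ i ≫ b' = a₀ := by
  classical
  have hloc : ∀ t : T₀, ∃ (j : ι) (V : S.Opens) (W : X.Opens) (g : Γ(T₀, ⊤)), IsAffineOpen V ∧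
      IsAffineOpen W ∧ W ≤ f ⁻¹ᵁ V ∧ T₀.basicOpen g ≤ i ⁻¹ᵁ U j ⊓ a₀ ⁻¹ᵁ W ∧ t ∈ T₀.basicOpen g := by
    intro t
    obtain ⟨j, hj⟩ := Opens.mem_iSup.1 (hU.ge (Opens.mem_top (i t)))
    obtain ⟨V, hV, htV, -⟩ := exists_isAffineOpen_mem_and_subset (X := S) (x := f (a₀ t)) (U := ⊤) trivial
    obtain ⟨W, hW, htW, hWV⟩ := exists_isAffineOpen_mem_and_subset (X := X) (x := a₀ t) (U := f ⁻¹ᵁ V) htV
    obtain ⟨_, ⟨g, rfl⟩, htg, hg⟩ := Opens.isBasis_iff_nbhd.1 (isBasis_basicOpen T₀)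
      (show t ∈ i ⁻¹ᵁ U j ⊓ a₀ ⁻¹ᵁ W from ⟨hj, htW⟩)
    exact ⟨j, V, W, g, hV, hW, hWV, hg, htg⟩
  choose j V W g hV hW hWV hg hmem using hloc
  obtain ⟨s, hs⟩ := isCompact_univ.elim_finite_subcover (fun t : T₀ => (T₀.basicOpen (g t) : Set T₀))
    (fun t => (T₀.basicOpen (g t)).isOpen) fun t _ => Set.mem_iUnion.2 ⟨t, hmem t⟩
  have hle : ∀ t : s, upOpen hsq (T₀.basicOpen (g t.1)) ≤ U (j t.1) := fun t =>
    upOpen_le hsq ((hg t.1).trans inf_le_left)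
  have hpre : ∀ t : s, i ⁻¹ᵁ upOpen hsq (T₀.basicOpen (g t.1)) = T₀.basicOpen (g t.1) := fun t =>
    preimage_upOpen hsq _
  have hcov : iSup (fun t : s => i ⁻¹ᵁ upOpen hsq (T₀.basicOpen (g t.1))) = ⊤ := by
    refine top_unique fun t _ => ?_
    obtain ⟨t', ht', htt⟩ := Set.mem_iUnion₂.1 (hs (Set.mem_univ t))
    exact Opens.mem_iSup.2 ⟨⟨t', ht'⟩, (hpre ⟨t', ht'⟩).ge htt⟩
  obtain ⟨κ⟩ := exists_kappa_conormal i hsq
  have hM : Coh.IsQCoh (Omega.conormal i) :=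
    H29Fitt.isQCoh_pullback i (ClSub.idealMod i.ker) (H17.OmegaLocal.isQuasicoherent_idealMod i.ker)
  refine exists_lift (hsqr := hsqr) hsq (fun t : s => upOpen hsq (T₀.basicOpen (g t.1))) ?_
    (fun t => T.homOfLE (hle t) ≫ b (j t.1)) (fun t => ?_) (fun t => ?_) κ ?_
  · refine top_unique fun x _ => ?_
    obtain ⟨x₀, rfl⟩ := surjective_of_sqZero hsq x
    obtain ⟨t, ht⟩ := Opens.mem_iSup.1 (hcov.ge (Opens.mem_top x₀))
    exact Opens.mem_iSup.2 ⟨t, ht⟩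
  · rw [Category.assoc, hb₁, Scheme.homOfLE_ι_assoc]
  · have e : (i ∣_ upOpen hsq (T₀.basicOpen (g t.1))) ≫ T.homOfLE (hle t) =
        T₀.homOfLE (i.preimage_mono (hle t)) ≫ (i ∣_ U (j t.1)) := by
      rw [← cancel_mono (U (j t.1)).ι, Category.assoc, Category.assoc, Scheme.homOfLE_ι, morphismRestrict_ι,
        morphismRestrict_ι, Scheme.homOfLE_ι_assoc]
    rw [← Category.assoc, e, Category.assoc, hb₂, Scheme.homOfLE_ι_assoc]
  · exact acyclic_of_isAffine hM _ (fun t : s => g t.1) hpre hcov (fun t => W t.1) (fun t => hW t.1)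
      (fun t => V t.1) (fun t => hV t.1) (fun t => hWV t.1)
      (fun t => (hpre t).le.trans ((hg t.1).trans inf_le_right))

end Groth.Agent.H06Lift
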